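import Groth.Agent.StkGerb.QuotFin.RationalPoint

/-!
# Objects of an etale quotient stack over an algebraically closed field
-/

set_option autoImplicit false
set_option backward.isDefEq.respectTransparency false
set_option backward.isDefEq.respectTransparency.types false

universe u

open CategoryTheory CategoryTheory.Limits AlgebraicGeometry MonoidalCategory CartesianMonoidalCategory MonObj AlgSt
open Groth.StkGerb.QuotFin Groth.AlgGrp2

noncomputable section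

namespace Groth.AlgStCover

variable {S : Scheme.{u}} {G X : Over S} [GrpObj G] {aX : AlgGrp.Action G X}
  {Ω : Type u} [Field Ω] [IsAlgClosed Ω] {t : Spec (CommRingCat.of Ω) ⟶ S}

theorem exists_etale_section (ξ : (QuotSt Scheme.etalePrecoverage G aX).p.Fiber (Over.mk t)) :
    ∃ s : Over.mk t ⟶ ξ.1.P, s ≫ ξ.1.π = eqToHom (ξ.2 : ξ.1.base = _).symm := by
  obtain ⟨A, hA⟩ := ξ
  change A.base = _ at hA
  obtain ⟨R, hR, hR'⟩ := A.loc
  let b : A.base.left ⟶ Spec (CommRingCat.of Ω) := (eqToHom hA).left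
  obtain ⟨S', f, hf, z, -⟩ : ∃ (S' : Scheme.{u}) (f : S' ⟶ A.base.left), R f ∧
      ∃ z : S', f z = (eqToHom hA.symm).left (IsLocalRing.closedPoint Ω) := by
    obtain ⟨I₀, Z, g, rfl⟩ := R.exists_eq_ofArrows
    obtain ⟨i, z, hz⟩ := ((Scheme.ofArrows_mem_precoverage_iff _).1 hR).1
      ((eqToHom hA.symm).left (IsLocalRing.closedPoint Ω))
    exact ⟨Z i, g i, ⟨i⟩, z, hz⟩
  obtain ⟨σ, hσ⟩ := hR' f hf
  have hfl : Etale f := hR.2 hf
  let W : Over (Spec (CommRingCat.of Ω)) := Over.mk (f ≫ b)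
  have : Nonempty W.left := ⟨z⟩
  have : LocallyOfFiniteType W.hom := inferInstanceAs (LocallyOfFiniteType (f ≫ b))
  obtain ⟨p⟩ := exists_algClosed_point W Ω
  have hp : p.left ≫ f ≫ b = 𝟙 _ := (Over.w p).trans (by
    show Spec.map (CommRingCat.ofHom (algebraMap Ω Ω)) = _
    exact Spec.map_id _)
  have hpf : p.left ≫ f = (eqToHom hA.symm).left := by
    have hb : b ≫ (eqToHom hA.symm).left = 𝟙 _ := by
      show (eqToHom hA).left ≫ _ = _
      rw [← Over.comp_left, eqToHom_trans, eqToHom_refl, Over.id_left]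
    calc p.left ≫ f = (p.left ≫ f ≫ b) ≫ (eqToHom hA.symm).left := by
          rw [Category.assoc, Category.assoc, hb, Category.comp_id]
      _ = _ := by rw [hp, Category.id_comp]
  have hσ' : (p.left ≫ σ) ≫ A.π.left = (eqToHom hA.symm).left :=
    (Category.assoc _ _ _).trans ((congrArg (p.left ≫ ·) hσ).trans hpf)
  refine ⟨Over.homMk (p.left ≫ σ) ?_, Over.OverMorphism.ext hσ'⟩
  show (p.left ≫ σ) ≫ A.P.hom = t
  rw [← Over.w A.π, ← Category.assoc, hσ']
  exact Over.w (eqToHom hA.symm)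

variable {T : Over S} {K : Precoverage Scheme.{u}} [K.HasIsos]

theorem nonempty_iso_iff (A B : (QuotSt K G aX).p.Fiber T) (tA : T ⟶ A.1.P) (tB : T ⟶ B.1.P)
    (hA : tA ≫ A.1.π = eqToHom (A.2 : A.1.base = T).symm) (hB : tB ≫ B.1.π = eqToHom (B.2 : B.1.base = T).symm) :
    Nonempty (A ≅ B) ↔ ∃ g : T ⟶ G, lift g (tA ≫ A.1.φ) ≫ aX.act = tB ≫ B.1.φ := by
  obtain ⟨i⟩ := nonempty_iso_trivObj A tA hA
  obtain ⟨j⟩ := nonempty_iso_trivObj B tB hB
  rw [← iso_trivObj_iff (K := K) (aX := aX)]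
  exact ⟨fun ⟨e⟩ => ⟨j ≪≫ e.symm ≪≫ i.symm⟩, fun ⟨e⟩ => ⟨i.symm ≪≫ e.symm ≪≫ j⟩⟩

theorem exists_obj_of_point (x : T ⟶ X) :
    ∃ (A : (QuotSt K G aX).p.Fiber T) (t : T ⟶ A.1.P),
      t ≫ A.1.π = eqToHom (A.2 : A.1.base = T).symm ∧ t ≫ A.1.φ = x := by
  refine ⟨trivObj K aX x, lift 1 (𝟙 T), ?_, ?_⟩
  · show lift 1 (𝟙 T) ≫ snd G T = _
    rw [lift_snd]
    rfl
  · rw [trivObj_φ, ← Category.assoc, comp_lift, lift_fst, lift_snd_assoc, Category.id_comp, lift_one_act]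

end Groth.AlgStCover
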