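import Groth.Agent.GitQuot.GrpdMonoQuotient
import Groth.Agent.GitQuot.GrpdOfMono
import Groth.Agent.GitQuot.QuotSheaf
import Groth.Agent.GitQuot.FiniteAffine
import Groth.Agent.AlgGrp2.Basic
import Groth.Prelude.Def_Mor2
import Groth.Prelude.Def_NonAbH2

/-!
# Quotients by free actions of finite locally free group schemes
-/

set_option autoImplicit false
set_option backward.isDefEq.respectTransparency false
set_option backward.isDefEq.respectTransparency.types false

universe u

open CategoryTheory CategoryTheory.Limits AlgebraicGeometry MonoidalCategory CartesianMonoidalCategory MonObj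
open Groth.AlgGrp2 Groth.GrpdQuotient

noncomputable section

namespace Groth.AlgStCover

variable {S : Scheme.{u}} {G X : Over S} [GrpObj G] {a : AlgGrp.Action G X}

theorem eq_of_free (hfree : ∀ (T : Over S) (g : T ⟶ G) (x : T ⟶ X), lift g x ≫ a.act = x → g = 1)
    {T : Over S} (g g' : T ⟶ G) (x : T ⟶ X) (h : lift g x ≫ a.act = lift g' x ≫ a.act) : g = g' := by
  have h' : lift (g'⁻¹ * g) x ≫ a.act = x := by
    rw [lift_mul_act a g'⁻¹ g x, h, ← lift_mul_act a g'⁻¹ g' x, inv_mul_cancel, lift_one_act]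
  exact (inv_mul_eq_one.1 (hfree T _ x h')).symm

theorem exists_freeQuot (hG : Mor2.IsFinLocFree G.hom)
    (hfree : ∀ (T : Over S) (g : T ⟶ G) (x : T ⟶ X), lift g x ≫ a.act = x → g = toUnit T ≫ η[G])
    (h3 : IsAffineHom X.hom ∨ (∃ (R : CommRingCat.{u}) (i : X.left ⟶ Spec R), IsOpenImmersion i) ∨
      UniversallyInjective G.hom) :
    ∃ (M : Over S) (q : X ⟶ M), QuotSh.IsQuotient Scheme.fppfPrecoverage (snd G X) a.act q ∧
      IsPullback a.act.left (snd G X).left q.left q.left ∧
      NonAbH1.IsLocallyTrivialFor Scheme.fppfPrecoverage (Over.mk q.left) := by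
  replace hfree : ∀ (T : Over S) (g : T ⟶ G) (x : T ⟶ X), lift g x ≫ a.act = x → g = 1 :=
    fun T g x h => hfree T g x h
  let R : Over S := G ⊗ X
  obtain ⟨hfin, hflat, hlfp⟩ := hG
  have : IsFinite (snd G X).left :=
    MorphismProperty.pullback_snd (P := @IsFinite) G.hom X.hom hfin
  have : Flat (snd G X).left := MorphismProperty.pullback_snd (P := @Flat) G.hom X.hom hflat
  have : LocallyOfFinitePresentation (snd G X).left :=
    MorphismProperty.pullback_snd (P := @LocallyOfFinitePresentation) G.hom X.hom hlfp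
  have hR : ∀ {T : Over S} (p p' : T ⟶ R), p ≫ a.act = p' ≫ a.act → p ≫ snd G X = p' ≫ snd G X →
      p = p' := fun {T} p p' h₁ h₂ => by
    refine CartesianMonoidalCategory.hom_ext _ _ ?_ h₂
    refine eq_of_free hfree _ _ (p ≫ snd G X) ?_
    rw [← comp_lift, lift_fst_snd, Category.comp_id, h₁, h₂, ← comp_lift, lift_fst_snd, Category.comp_id]
  have hj : ∀ {T : Scheme.{u}} {p p' : T ⟶ R.left}, p ≫ a.act.left = p' ≫ a.act.left →
      p ≫ (snd G X).left = p' ≫ (snd G X).left → p = p' := fun {T p p'} h₁ h₂ => by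
    have hb : p' ≫ R.hom = p ≫ R.hom := by
      rw [← Over.w (snd G X), ← Category.assoc, ← h₂, Category.assoc]
    exact congrArg CommaMorphism.left (hR (Over.homMk p rfl : Over.mk (p ≫ R.hom) ⟶ R)
      (Over.homMk p' hb : Over.mk (p ≫ R.hom) ⟶ R) (Over.OverMorphism.ext h₁) (Over.OverMorphism.ext h₂))
  let e : X ⟶ R := lift 1 (𝟙 X)
  let i : R ⟶ R := lift (fst G X)⁻¹ a.act
  let C : Over S := Over.mk (pullback.fst (snd G X).left a.act.left ≫ R.hom)
  let c₁ : C ⟶ R := Over.homMk (pullback.fst (snd G X).left a.act.left) rfl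
  let c₂ : C ⟶ R := Over.homMk (pullback.snd (snd G X).left a.act.left) (by
    change _ = pullback.fst (snd G X).left a.act.left ≫ R.hom
    conv_lhs => rw [← Over.w a.act]
    conv_rhs => rw [← Over.w (snd G X)]
    rw [← Category.assoc, ← pullback.condition, Category.assoc])
  have hc : c₁ ≫ snd G X = c₂ ≫ a.act := by ext1; exact pullback.condition
  let c : C ⟶ R := lift ((c₁ ≫ fst G X) * (c₂ ≫ fst G X)) (c₂ ≫ snd G X)
  have hct : c ≫ a.act = c₁ ≫ a.act := by
    show lift _ _ ≫ a.act = _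
    rw [lift_mul_act a (c₁ ≫ fst G X) (c₂ ≫ fst G X) (c₂ ≫ snd G X), ← comp_lift, lift_fst_snd,
      Category.comp_id, ← hc, ← comp_lift, lift_fst_snd, Category.comp_id]
  let Γ₀ : Grpd.GroupoidScheme S := GrpdBasic.ofMono X.hom R.hom (snd G X).left a.act.left
    (Over.w (snd G X)) (Over.w a.act) hj e.left i.left c.left
    (congrArg CommaMorphism.left (lift_snd _ _ : e ≫ snd G X = 𝟙 X))
    (congrArg CommaMorphism.left (lift_one_act a (𝟙 X) : e ≫ a.act = 𝟙 X))
    (congrArg CommaMorphism.left (lift_snd _ _ : i ≫ snd G X = a.act))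
    (congrArg CommaMorphism.left (show i ≫ a.act = snd G X by
      show lift (fst G X)⁻¹ a.act ≫ a.act = _
      rw [show lift (fst G X)⁻¹ a.act = lift (fst G X)⁻¹ (lift (fst G X) (snd G X) ≫ a.act) by
          rw [lift_fst_snd, Category.id_comp],
        ← lift_mul_act a (fst G X)⁻¹ (fst G X) (snd G X), inv_mul_cancel, lift_one_act]))
    (congrArg CommaMorphism.left (lift_snd _ _ : c ≫ snd G X = c₂ ≫ snd G X))
    (congrArg CommaMorphism.left hct)
  have : IsFinite Γ₀.s := ‹IsFinite (snd G X).left›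
  have : Flat Γ₀.s := ‹Flat (snd G X).left›
  have : LocallyOfFinitePresentation Γ₀.s := ‹LocallyOfFinitePresentation (snd G X).left›
  have : Mono Γ₀.j := GrpdBasic.mono_j_of_hom_ext Γ₀ hj
  have hb : OrbitsInAffine Γ₀ := fun x => by
    show ∃ V : X.left.Opens, IsAffineOpen V ∧
      a.act.left '' ((snd G X).left ⁻¹' {x}) ⊆ (V : Set X.left)
    rcases h3 with h | ⟨A, j, hj'⟩ | h
    · obtain ⟨_, ⟨U : S.Opens, hU, rfl⟩, hxU, -⟩ :=
        S.isBasis_affineOpens.exists_subset_of_mem_open (Set.mem_univ (X.hom x)) isOpen_univ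
      refine ⟨X.hom ⁻¹ᵁ U, hU.preimage X.hom, ?_⟩
      rintro _ ⟨r, hr, rfl⟩
      show X.hom (a.act.left r) ∈ U
      rw [← Scheme.Hom.comp_apply, Over.w a.act, ← Over.w (snd G X), Scheme.Hom.comp_apply,
        show (snd G X).left r = x from hr]
      exact hxU
    · exact Groth.GitQuot.exists_affineOpen_of_finite j _
        (((snd G X).left.finite_preimage_singleton x).image _)
    · have : UniversallyInjective (snd G X).left :=
        MorphismProperty.pullback_snd (P := @UniversallyInjective) G.hom X.hom h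
      obtain ⟨_, ⟨V : X.left.Opens, hV, rfl⟩, hxV, -⟩ :=
        X.left.isBasis_affineOpens.exists_subset_of_mem_open (Set.mem_univ x) isOpen_univ
      refine ⟨V, hV, ?_⟩
      rintro _ ⟨r, hr, rfl⟩
      have he : (snd G X).left (e.left x) = x := by
        rw [← Scheme.Hom.comp_apply, ← Over.comp_left, (lift_snd _ _ : e ≫ snd G X = 𝟙 X)]
        rfl
      rw [(snd G X).left.injective (show (snd G X).left r = (snd G X).left (e.left x) from
          (show (snd G X).left r = x from hr).trans he.symm),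
        ← Scheme.Hom.comp_apply, ← Over.comp_left, (lift_one_act a (𝟙 X) : e ≫ a.act = 𝟙 X)]
      exact hxV
  let p : X.left ⟶ quotient Γ₀ := GrpdQuotient.p hb
  have hp : IsPullback a.act.left (snd G X).left p p := GrpdQuotient.isPullback hb
  obtain ⟨hp₁, hp₂, hp₃⟩ := GrpdQuotient.finLocFree hb
  have : Flat p := hp₂
  have : LocallyOfFinitePresentation p := hp₃
  have : Surjective p := ⟨(GrpdQuotient.isQuot hb).surj⟩
  have hV : ∀ {Z : Scheme.{u}} (g₁ g₂ : Z ⟶ X.left), g₁ ≫ p = g₂ ≫ p → g₁ ≫ X.hom = g₂ ≫ X.hom :=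
    fun g₁ g₂ h => by
      rw [← hp.lift_fst g₁ g₂ h]
      conv_rhs => rw [← hp.lift_snd g₁ g₂ h]
      rw [Category.assoc, Category.assoc]
      exact congrArg _ ((Over.w a.act).trans (Over.w (snd G X)).symm)
  let M : Over S := Over.mk (EffectiveEpi.desc p X.hom hV)
  let q : X ⟶ M := Over.homMk p (EffectiveEpi.fac p X.hom hV)
  have : Flat q.left := hp₂
  have : LocallyOfFinitePresentation q.left := hp₃
  have : Surjective q.left := ‹Surjective p›
  refine ⟨M, q, ?_, hp, ?_⟩
  · exact Groth.QuotSheaf.isQuotient_of_epi Scheme.fppfPrecoverage (s := snd G X) (t := a.act)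
      (Over.OverMorphism.ext hp.w.symm) hp.w (Groth.QuotSheaf.epi_repMap q) hp (𝟙 R) (Category.id_comp _)
      (Category.id_comp _) (have : Surjective (𝟙 R : R ⟶ R).left := inferInstanceAs (Surjective (𝟙 R.left))
        have : Flat (𝟙 R : R ⟶ R).left := inferInstanceAs (Flat (𝟙 R.left))
        have : LocallyOfFinitePresentation (𝟙 R : R ⟶ R).left :=
          inferInstanceAs (LocallyOfFinitePresentation (𝟙 R.left))
        Groth.QuotSheaf.epi_repMap (𝟙 R))
  · refine ⟨Presieve.singleton q.left, q.left.singleton_mem_fppfPrecoverage, ?_⟩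
    rintro _ _ ⟨⟩
    exact ⟨𝟙 _, Category.id_comp _⟩

end Groth.AlgStCover
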