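import Groth.Agent.AlgStCover.InvQuot
import Groth.Prelude.Def_W4c6nonredquotmfGoodQuot
import Groth.Agent.AlgGrp1.Orbit
import Groth.Agent.S19409

/-!
# Good quotients
-/

set_option autoImplicit false
set_option backward.isDefEq.respectTransparency false
set_option backward.isDefEq.respectTransparency.types false

universe u

open AlgebraicGeometry CategoryTheory CategoryTheory.Limits MonoidalCategory CartesianMonoidalCategory MonObj
open Groth.AlgStCover.InvQuot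

noncomputable section

namespace Groth.AlgStCover

variable {S : Scheme.{u}} {G X Y : Over S} [GrpObj G] {a : AlgGrp.Action G X} {φ : X ⟶ Y}

theorem invSet_iff (W : Set X.left) :
    InvSet (snd G X).left a.act.left W ↔ NRQuot.IsInvariantSet a W :=
  ⟨fun hW p hp => hW ⟨p, hp, rfl⟩, fun hW => by rintro _ ⟨p, hp, rfl⟩; exact hW p hp⟩

theorem crit_of_isGoodQuot (h : NRQuot.IsGoodQuot a φ) : Crit (snd G X).left a.act.left φ.left :=
  crit_of_hyps h.inv h.sections (fun W hW hW' => h.closed W hW ((invSet_iff W).1 hW'))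
    fun J W hW => h.inter J W (fun i => (hW i).1) fun i => (invSet_iff _).1 (hW i).2

theorem isGoodQuot_restrict (h : NRQuot.IsGoodQuot a φ) (U : Y.left.Opens)
    (aU : AlgGrp.Action G (Over.mk ((φ.left ⁻¹ᵁ U).ι ≫ X.hom)))
    (jU : Over.mk ((φ.left ⁻¹ᵁ U).ι ≫ X.hom) ⟶ X) (hjU : jU.left = (φ.left ⁻¹ᵁ U).ι)
    (haU : aU.act ≫ jU = (G ◁ jU) ≫ a.act)
    (φU : Over.mk ((φ.left ⁻¹ᵁ U).ι ≫ X.hom) ⟶ Over.mk (U.ι ≫ Y.hom))
    (hφU : φU.left ≫ U.ι = (φ.left ⁻¹ᵁ U).ι ≫ φ.left) :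
    NRQuot.IsGoodQuot aU φU := by
  let X' : Over S := Over.mk ((φ.left ⁻¹ᵁ U).ι ≫ X.hom)
  have hjo : IsOpenImmersion jU.left := by rw [hjU]; exact inferInstanceAs (IsOpenImmersion (φ.left ⁻¹ᵁ U).ι)
  have sq : IsPullback (G ◁ jU).left (snd G X').left (snd G X).left jU.left := by
    have h1 : IsPullback (G ◁ jU) (snd G X') (snd G X) jU :=
      ⟨⟨whiskerLeft_snd G jU⟩, ⟨PullbackCone.IsLimit.mk _ (fun c => lift (c.fst ≫ fst G X) c.snd)
        (fun c => CartesianMonoidalCategory.hom_ext _ _ (by simp) (by simpa using c.condition.symm))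
        (fun c => lift_snd _ _)
        fun c m h₁ h₂ => CartesianMonoidalCategory.hom_ext _ _ (by simp [← h₁])
          ((show m ≫ snd G X' = c.snd from h₂).trans (lift_snd _ _).symm)⟩⟩
    exact h1.map (Over.forget S)
  have : IsOpenImmersion (G ◁ jU).left := MorphismProperty.of_isPullback sq.flip hjo
  have hR : ∀ r, (snd G X).left r ∈ Set.range jU.left → r ∈ Set.range (G ◁ jU).left := fun r ⟨x, hx⟩ => by
    obtain ⟨r', hr', -⟩ := Scheme.exists_preimage_of_isPullback sq r x hx.symm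
    exact ⟨r', hr'⟩
  have hX : ∀ x, φ.left x ∈ Set.range U.ι → x ∈ Set.range jU.left := fun x hx => by
    rw [Scheme.Opens.range_ι] at hx
    rw [hjU]
    exact Set.ext_iff.1 (φ.left ⁻¹ᵁ U).range_ι x |>.2 hx
  have hp : φU.left ≫ U.ι = jU.left ≫ φ.left := by rw [hjU]; exact hφU
  have hc := restrict (crit_of_isGoodQuot h) (R' := (G ⊗ X').left) (jR := (G ◁ jU).left) (jX := jU.left)
    (jY := U.ι) (s' := (snd G X').left) (t' := aU.act.left) (p' := φU.left) sq.w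
    (congrArg CommaMorphism.left haU.symm) hp hR hX
  refine ⟨?_, Over.OverMorphism.ext hc.w, fun O => ⟨hc.inj O, Set.Subset.antisymm ?_ (hc.sec O)⟩,
    fun W hW hW' => hc.closed W hW ((invSet_iff W).2 hW'),
    fun J W hW hW' => hc.inter J W fun i => ⟨hW i, (invSet_iff _).2 (hW' i)⟩⟩
  · have e : φU.left = φ.left ∣_ U := by
      rw [← cancel_mono U.ι, morphismRestrict_ι]
      exact hφU
    rw [e]
    exact MorphismProperty.of_isPullback (P := @IsAffineHom) (isPullback_morphismRestrict φ.left U).flip h.affine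
  · rintro _ ⟨b, rfl⟩
    show InvSec (snd G X').left aU.act.left _ _
    unfold InvSec
    rw [← ConcreteCategory.comp_apply, ← ConcreteCategory.comp_apply, Scheme.Hom.app_eq_appLE,
      Scheme.Hom.appLE_comp_appLE, Scheme.Hom.appLE_comp_appLE]
    simp only [hc.w]

section Points

variable {k : Type u} [Field k] [IsAlgClosed k] {G X Y : Over (Spec (CommRingCat.of k))} [GrpObj G]
  {a : AlgGrp.Action G X} {φ : X ⟶ Y}

theorem point_eq_of_closedPoint {Z : Scheme.{u}} (g : Z ⟶ Spec (CommRingCat.of k))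
    (f₁ f₂ : Spec (CommRingCat.of k) ⟶ Z) (h₁ : f₁ ≫ g = 𝟙 _) (h₂ : f₂ ≫ g = 𝟙 _)
    (e : f₁ (IsLocalRing.closedPoint k) = f₂ (IsLocalRing.closedPoint k)) : f₁ = f₂ := by
  obtain ⟨⟨z₁, ψ₁⟩, rfl⟩ := (Scheme.SpecToEquivOfField k Z).symm.surjective f₁
  obtain ⟨⟨z₂, ψ₂⟩, rfl⟩ := (Scheme.SpecToEquivOfField k Z).symm.surjective f₂
  have hz : z₁ = z₂ := by
    change (Spec.map ψ₁ ≫ Z.fromSpecResidueField z₁) _ = (Spec.map ψ₂ ≫ Z.fromSpecResidueField z₂) _ at e
    rwa [Scheme.Hom.comp_apply, Scheme.Hom.comp_apply, Scheme.fromSpecResidueField_apply,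
      Scheme.fromSpecResidueField_apply] at e
  subst hz
  change Spec.map ψ₁ ≫ Z.fromSpecResidueField z₁ ≫ g = 𝟙 _ at h₁
  change Spec.map ψ₂ ≫ Z.fromSpecResidueField z₁ ≫ g = 𝟙 _ at h₂
  obtain ⟨j, hj⟩ : ∃ j : CommRingCat.of k ⟶ Z.residueField z₁,
      Spec.map j = Z.fromSpecResidueField z₁ ≫ g := ⟨_, Spec.map_preimage _⟩
  rw [← hj, ← Spec.map_comp] at h₁ h₂
  have e₁ : j ≫ ψ₁ = 𝟙 _ := Spec.map_injective (h₁.trans (Spec.map_id _).symm)
  have e₂ : j ≫ ψ₂ = 𝟙 _ := Spec.map_injective (h₂.trans (Spec.map_id _).symm)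
  suffices ψ₁ = ψ₂ by rw [this]
  ext z
  have h : z = j (ψ₁ z) := ψ₁.hom.injective (DFunLike.congr_fun (congrArg (fun q => q.hom) e₁) (ψ₁ z)).symm
  calc ψ₁ z = ψ₂ (j (ψ₁ z)) := (DFunLike.congr_fun (congrArg (fun q => q.hom) e₂) (ψ₁ z)).symm
    _ = ψ₂ z := by rw [← h]

theorem closure_orbit_inter_iff (h : NRQuot.IsGoodQuot a φ)
    (x₁ x₂ : 𝟙_ (Over (Spec (CommRingCat.of k))) ⟶ X) :
    (closure (Set.range (a.orbitMap x₁).left.base) ∩ closure (Set.range (a.orbitMap x₂).left.base)).Nonempty ↔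
      x₁ ≫ φ = x₂ ≫ φ := by
  let p₀ : (𝟙_ (Over (Spec (CommRingCat.of k)))).left := (IsLocalRing.closedPoint k : Spec (CommRingCat.of k))
  have hval : ∀ z : 𝟙_ _ ⟶ X, closure (Set.range (a.orbitMap z).left.base) ⊆
      ⇑φ.left ⁻¹' {(z ≫ φ).left p₀} := fun z => by
    have := Groth.Agent.S19409.isClosedImmersion_point (z ≫ φ)
    have hsing : Set.range (z ≫ φ).left = {(z ≫ φ).left p₀} := by
      refine Set.eq_singleton_iff_unique_mem.2 ⟨⟨_, rfl⟩, ?_⟩
      rintro _ ⟨q, rfl⟩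
      exact congrArg (z ≫ φ).left (Subsingleton.elim (α := Spec (CommRingCat.of k)) _ _)
    refine closure_minimal ?_ ((hsing ▸ (z ≫ φ).left.isClosedEmbedding.isClosed_range).preimage φ.left.continuous)
    rintro _ ⟨g, rfl⟩
    rw [Set.mem_preimage, ← hsing]
    have e : a.orbitMap z ≫ φ = toUnit G ≫ z ≫ φ := by
      show (lift (𝟙 G) (toUnit G ≫ z) ≫ a.act) ≫ φ = _
      rw [Category.assoc, h.inv, lift_snd_assoc, Category.assoc]
    exact ⟨(toUnit G).left g, by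
      rw [← Scheme.Hom.comp_apply, ← Over.comp_left, ← e]
      rfl⟩
  constructor
  · rintro ⟨q, hq₁, hq₂⟩
    have e : (x₁ ≫ φ).left p₀ = (x₂ ≫ φ).left p₀ := (Set.mem_singleton_iff.1 (hval x₁ hq₁)).symm.trans
      (Set.mem_singleton_iff.1 (hval x₂ hq₂))
    have h₁ : IsClosedImmersion (x₁ ≫ φ).left := Groth.Agent.S19409.isClosedImmersion_point (x₁ ≫ φ)
    apply Over.OverMorphism.ext
    exact point_eq_of_closedPoint Y.hom (x₁ ≫ φ).left (x₂ ≫ φ).left (Over.w (x₁ ≫ φ)) (Over.w (x₂ ≫ φ)) e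
  · intro e
    let Wf : ULift.{u} Bool → Set X.left := fun i => if i.down
      then closure (Set.range (a.orbitMap x₁).left.base) else closure (Set.range (a.orbitMap x₂).left.base)
    have hinv : ∀ z : 𝟙_ _ ⟶ X, NRQuot.IsInvariantSet a (closure (Set.range (a.orbitMap z).left.base)) :=
      fun z q hq => (Groth.AlgGrp1.IsInvariant.closure (Groth.AlgGrp1.isInvariant_range
        (Groth.AlgGrp1.regularAction G) a _ (Groth.AlgGrp1.orbitMap_equivariant a z))).ge hq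
    have hW := h.inter _ Wf (fun i => by rcases i with ⟨_ | _⟩ <;> exact isClosed_closure)
      (fun i => by rcases i with ⟨_ | _⟩ <;> exact hinv _)
    have hmem : ∀ z : 𝟙_ _ ⟶ X, z.left p₀ ∈ closure (Set.range (a.orbitMap z).left.base) := by
      intro z
      have e : η[G] ≫ a.orbitMap z = z := by
        rw [Groth.AlgGrp1.comp_orbit, toUnit_unique (toUnit _) (𝟙 _), Category.id_comp,
        show η[G] = (1 : 𝟙_ _ ⟶ G) from MonObj.one_eq_one G, a.lift_one_act]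
      exact subset_closure ⟨η[G].left p₀, congrArg (fun w : 𝟙_ (Over (Spec (CommRingCat.of k))) ⟶ X => w.left p₀) e⟩
    obtain ⟨q, hq, -⟩ : (x₁ ≫ φ).left p₀ ∈ φ.left.base '' (⋂ i, Wf i) := by
      rw [hW, Set.mem_iInter]
      rintro ⟨_ | _⟩
      · exact ⟨_, hmem x₂, by rw [e]; rfl⟩
      · exact ⟨_, hmem x₁, rfl⟩
    exact ⟨q, Set.mem_iInter.1 hq ⟨true⟩, Set.mem_iInter.1 hq ⟨false⟩⟩

end Points

end Groth.AlgStCover
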