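import Groth.Agent.AlgStBasic.OpenSub
import Groth.Agent.AlgStBasic.MonoCalc

/-!
# The substack cut out by an immersion
-/

set_option autoImplicit false
set_option backward.isDefEq.respectTransparency false
set_option backward.isDefEq.respectTransparency.types false

universe u

open CategoryTheory AlgebraicGeometry
open Groth.StkBase Groth.AlgStBasic

noncomputable section

namespace Groth.AlgStCover

variable {S : Scheme.{u}} {𝒵 𝒳 : AlgSt.Cat S} (i : 𝒵 ⥤ᵇ 𝒳)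

/-- The essential image. -/
def imPred (x : 𝒳.obj) : Prop := ∃ z, Nonempty (i.obj z ≅ x)

instance : ObjectProperty.IsClosedUnderIsomorphisms (imPred i) :=
  ⟨fun e ⟨z, ⟨φ⟩⟩ => ⟨z, ⟨φ ≪≫ e⟩⟩⟩

/-- The factorisation through the essential image. -/
def toImage : 𝒵 ⥤ᵇ AlgSt.fullSub 𝒳 (imPred i) where
  toFunctor := ObjectProperty.lift _ i.toFunctor fun z => ⟨z, ⟨Iso.refl _⟩⟩
  w := i.w

theorem comp_toImage : BasedFunctor.comp (toImage i) (AlgSt.subIncl 𝒳 (imPred i)) = i := rfl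

theorem exists_vert_preimage (hZ : FibCat.IsFibGrpd 𝒵.p) (hX : FibCat.IsFibGrpd 𝒳.p) {x : 𝒳.obj}
    (h : imPred i x) : ∃ (z : 𝒵.obj) (φ : i.obj z ≅ x), IsVert 𝒳.p φ.hom := by
  obtain ⟨z, ⟨ψ⟩⟩ := h
  obtain ⟨z', l, hl, el⟩ := exists_lift' hZ (x := z) (𝒳.p.map ψ.inv ≫ eqToHom (i.w_obj z))
  obtain ⟨j, hj, -⟩ := exists_vert_iso_of_lifts hX (i.map l) ψ.inv ((i.w_obj z').trans hl)
    (by simp [map_map, el])
  exact ⟨z', j, hj⟩

theorem isEquivOver_toImage (hZ : FibCat.IsFibGrpd 𝒵.p) (hX : FibCat.IsFibGrpd 𝒳.p)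
    (hi : AlgSt.IsMono i) : FibCat.IsEquivOver (toImage i) := by
  obtain ⟨hfull, hff⟩ := fullyFaithful_of_isMono hZ hX i hi
  refine isEquivOver_of_fullyFaithful _ ⟨fun {a b} φ => ?_⟩ ⟨fun {a b} φ ψ h => ?_⟩ fun x => ?_
  · exact ⟨i.toFunctor.preimage φ.hom, ObjectProperty.hom_ext _ (i.toFunctor.map_preimage _)⟩
  · exact i.toFunctor.map_injective (congrArg (fun t => t.hom) h)
  · obtain ⟨z, φ, hφ⟩ := exists_vert_preimage i hZ hX x.property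
    exact ⟨z, ObjectProperty.isoMk _ φ, hφ⟩

theorem repWith_subIncl (hZ : FibCat.IsFibGrpd 𝒵.p) (hX : FibCat.IsFibGrpd 𝒳.p)
    (hi : AlgSt.IsMono i) {P : MorphismProperty (AlgSp.Sp S)} (h : AlgSt.RepByAlgSpWith P i) :
    AlgSt.RepByAlgSpWith P (AlgSt.subIncl 𝒳 (imPred i)) :=
  (repWith_precomp_equiv (isEquivOver_toImage i hZ hX hi) _).1 h

theorem isAlgStack_image (hZ : FibCat.IsFibGrpd 𝒵.p)
    (hX : AlgSt.IsAlgStack Scheme.fppfPrecoverage 𝒳) (hi : AlgSt.IsMono i) :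
    AlgSt.IsAlgStack Scheme.fppfPrecoverage (AlgSt.fullSub 𝒳 (imPred i)) :=
  isAlgStack_of_repByAlgSp1 (isFibGrpd_of_isEquivOver (isEquivOver_toImage i hZ hX.isStack.1 hi) hZ) hX _
    (repWith_repByAlgSp1 (repWith_subIncl i hZ hX.isStack.1 hi hi))

/-- Uniqueness of the image. -/
theorem eq_imPred {Q : 𝒳.obj → Prop} (hQ : ObjectProperty.IsClosedUnderIsomorphisms Q)
    (i' : 𝒵 ⥤ᵇ AlgSt.fullSub 𝒳 Q) (hi' : FibCat.IsEquivOver i')
    (e : BasedFunctor.comp i' (AlgSt.subIncl 𝒳 Q) ≅ i) : Q = imPred i := by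
  funext x
  apply propext
  constructor
  · intro hx
    obtain ⟨j, ⟨α⟩, ⟨β⟩⟩ := hi'
    exact ⟨j.obj ⟨x, hx⟩, ⟨(isoApp e _).symm ≪≫
      (AlgSt.subIncl 𝒳 Q).toFunctor.mapIso (isoApp β ⟨x, hx⟩)⟩⟩
  · rintro ⟨z, ⟨φ⟩⟩
    exact hQ.of_iso (isoApp e z ≪≫ φ) (i'.obj z).property

end Groth.AlgStCover
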