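import Mathlib
import Groth.Prelude.Def_W4bk4git07Quot

/-!
# Quotients by invariant functions with closed images
-/

set_option autoImplicit false

universe u

open AlgebraicGeometry CategoryTheory CategoryTheory.Limits

noncomputable section

namespace Groth.AlgStCover.InvQuot

variable {R X Y : Scheme.{u}} (s t : R ⟶ X) (p : X ⟶ Y)

/-- A section is invariant. -/
def InvSec (V : X.Opens) (f : Γ(X, V)) : Prop :=
  t.appLE V (t ⁻¹ᵁ V ⊓ s ⁻¹ᵁ V) inf_le_left f = s.appLE V (t ⁻¹ᵁ V ⊓ s ⁻¹ᵁ V) inf_le_right f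

/-- A closed invariant set. -/
def InvSet (W : Set X) : Prop := ⇑t '' (⇑s ⁻¹' W) ⊆ W

/-- The hypotheses of Mumford's criterion. -/
structure Crit : Prop where
  w : t ≫ p = s ≫ p
  inj : ∀ U : Y.Opens, Function.Injective (p.app U)
  sec : ∀ (U : Y.Opens) (f : Γ(X, p ⁻¹ᵁ U)), InvSec s t (p ⁻¹ᵁ U) f → f ∈ Set.range (p.app U)
  closed : ∀ W : Set X, IsClosed W → InvSet s t W → IsClosed (⇑p '' W)
  inter : ∀ (J : Type u) (W : J → Set X), (∀ i, IsClosed (W i) ∧ InvSet s t (W i)) →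
    ⇑p '' (⋂ i, W i) = ⋂ i, ⇑p '' W i

variable {s t p}

section
variable {Z : Scheme.{u}} {g : X ⟶ Z} (hg : t ≫ g = s ≫ g)
include hg

theorem invSet_preimage (C : Set Z) : InvSet s t (⇑g ⁻¹' C) := by
  rintro _ ⟨r, hr, rfl⟩
  show g (t r) ∈ C
  rw [← Scheme.Hom.comp_apply, hg, Scheme.Hom.comp_apply]
  exact hr

theorem invSet_preimage_compl (C : Set Z) : InvSet s t (⇑g ⁻¹' C)ᶜ := invSet_preimage hg Cᶜ

end

variable (h : Crit s t p)
include h

theorem surjective : Function.Surjective p := by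
  have hc : IsClosed (Set.range p) := by
    rw [← Set.image_univ]
    exact h.closed _ isClosed_univ (Set.subset_univ _)
  intro y
  by_contra hy
  let U : Y.Opens := ⟨(Set.range p)ᶜ, hc.isOpen_compl⟩
  have he : p ⁻¹ᵁ U = ⊥ := TopologicalSpace.Opens.ext (Set.eq_empty_of_forall_notMem fun x hx => hx ⟨x, rfl⟩)
  have hs : Subsingleton Γ(X, p ⁻¹ᵁ U) := by
    rw [he]
    exact inferInstance
  have : Subsingleton Γ(Y, U) := (h.inj U).subsingleton
  have h1 := congrArg (Y.presheaf.germ U y hy) (Subsingleton.elim (1 : Γ(Y, U)) 0)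
  rw [map_one, map_zero] at h1
  exact one_ne_zero h1

theorem isQuotientMap : Topology.IsQuotientMap p := by
  refine Topology.isQuotientMap_iff_isClosed.2 ⟨surjective h, fun C => ⟨fun hC => hC.preimage p.continuous, fun hC => ?_⟩⟩
  have := h.closed _ hC (invSet_preimage h.w C)
  rwa [Set.image_preimage_eq _ (surjective h)] at this

/-- Morphisms out of an open of the quotient are determined upstairs. -/
theorem hom_ext {Z : Scheme.{u}} (U : Y.Opens) {f₁ f₂ : U.toScheme ⟶ Z}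
    (e : (p ∣_ U) ≫ f₁ = (p ∣_ U) ≫ f₂) : f₁ = f₂ := by
  have hsurj : Function.Surjective (p ∣_ U) := fun y => by
    obtain ⟨x, hx⟩ := surjective h y.1
    have hxU : x ∈ p ⁻¹ᵁ U := by
      show p x ∈ U
      rw [hx]
      exact y.2
    refine ⟨⟨x, hxU⟩, Subtype.ext ?_⟩
    rw [morphismRestrict_base]
    exact hx
  have hpt : ∀ y, f₁ y = f₂ y := fun y => by
    obtain ⟨x, rfl⟩ := hsurj y
    rw [← Scheme.Hom.comp_apply, e, Scheme.Hom.comp_apply]
  refine Scheme.hom_ext_of_forall _ _ fun x => ?_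
  obtain ⟨_, ⟨Z₀ : Z.Opens, hZ₀, rfl⟩, hxZ, -⟩ :=
    Z.isBasis_affineOpens.exists_subset_of_mem_open (Set.mem_univ (f₁ x)) isOpen_univ
  have : IsAffine Z₀.toScheme := hZ₀
  let O : U.toScheme.Opens := f₁ ⁻¹ᵁ Z₀
  refine ⟨O, hxZ, ?_⟩
  have h2 : O ≤ f₂ ⁻¹ᵁ Z₀ := fun y hy => by
    show f₂ y ∈ Z₀
    rw [← hpt]
    exact hy
  suffices f₁.resLE Z₀ O le_rfl = f₂.resLE Z₀ O h2 by
    rw [← Scheme.Hom.resLE_comp_ι f₁ (U := Z₀) (V := O) le_rfl, this, Scheme.Hom.resLE_comp_ι]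
  apply ext_of_isAffine
  rw [Scheme.Hom.appTop, Scheme.Hom.appTop, Scheme.Hom.resLE_app_top, Scheme.Hom.resLE_app_top,
    cancel_epi, cancel_mono]
  ext z
  have hinj : Function.Injective ((p ∣_ U).app O) := by
    have : (p ∣_ U).app O = p.app (U.ι ''ᵁ O) ≫ X.presheaf.map (eqToHom (image_morphismRestrict_preimage p U O)).op :=
      morphismRestrict_app p U O
    rw [this]
    intro a b hab
    apply h.inj (U.ι ''ᵁ O)
    exact (ConcreteCategory.bijective_of_isIso (X.presheaf.map (eqToHom (image_morphismRestrict_preimage p U O)).op)).1 hab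
  apply hinj
  rw [← ConcreteCategory.comp_apply, ← ConcreteCategory.comp_apply,
    Scheme.Hom.app_eq_appLE, Scheme.Hom.appLE_comp_appLE, Scheme.Hom.appLE_comp_appLE]
  congr 2
  simp only [e]

theorem exists_desc_affine {Z : Scheme.{u}} (g : X ⟶ Z) (hg : t ≫ g = s ≫ g) (U : Y.Opens) (Z₀ : Z.Opens)
    (hZ₀ : IsAffineOpen Z₀) (hU : p ⁻¹ᵁ U ≤ g ⁻¹ᵁ Z₀) :
    ∃ f : U.toScheme ⟶ Z, (p ∣_ U) ≫ f = (p ⁻¹ᵁ U).ι ≫ g := by
  have hmem : ∀ z : Γ(Z, Z₀), g.appLE Z₀ (p ⁻¹ᵁ U) hU z ∈ Set.range (p.app U) := fun z => by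
    apply h.sec
    unfold InvSec
    rw [← ConcreteCategory.comp_apply, ← ConcreteCategory.comp_apply,
      Scheme.Hom.appLE_comp_appLE, Scheme.Hom.appLE_comp_appLE]
    simp only [hg]
  choose k hk using hmem
  let φ : Γ(Z, Z₀) →+* Γ(Y, U) :=
    { toFun := k
      map_one' := h.inj U (by rw [hk, map_one, map_one])
      map_mul' := fun a b => h.inj U (by rw [hk, map_mul, map_mul, hk, hk])
      map_zero' := h.inj U (by rw [hk, map_zero, map_zero])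
      map_add' := fun a b => h.inj U (by rw [hk, map_add, map_add, hk, hk]) }
  have : IsAffine Z₀.toScheme := hZ₀
  let f₀ : U.toScheme ⟶ Z₀.toScheme :=
    U.toScheme.toSpecΓ ≫ Spec.map (CommRingCat.ofHom φ ≫ U.topIso.inv) ≫ hZ₀.isoSpec.inv
  have key : (p ∣_ U) ≫ f₀ = g.resLE Z₀ (p ⁻¹ᵁ U) hU := by
    apply ext_of_isAffine
    have hf₀ : f₀.appTop = Z₀.topIso.hom ≫ CommRingCat.ofHom φ ≫ U.topIso.inv := by
      rw [Scheme.Hom.comp_appTop, Scheme.Hom.comp_appTop, hZ₀.isoSpec_inv_appTop, Scheme.toSpecΓ_appTop,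
        Category.assoc, Category.assoc, ← Scheme.ΓSpecIso_inv_naturality_assoc, Iso.inv_hom_id, Category.comp_id]
    rw [Scheme.Hom.comp_appTop, hf₀, ← Scheme.Hom.resLE_eq_morphismRestrict]
    simp only [Scheme.Hom.appTop, Scheme.Hom.resLE_app_top]
    simp only [Category.assoc, Iso.inv_hom_id_assoc]
    congr 1
    rw [← Category.assoc]
    congr 1
    ext z
    show p.appLE U (p ⁻¹ᵁ U) le_rfl (k z) = _
    rw [← Scheme.Hom.app_eq_appLE]
    exact hk z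
  exact ⟨f₀ ≫ Z₀.ι, by rw [← Category.assoc, key, Scheme.Hom.resLE_comp_ι]⟩

theorem exists_desc {Z : Scheme.{u}} (g : X ⟶ Z) (hg : t ≫ g = s ≫ g) : ∃ f : Y ⟶ Z, p ≫ f = g := by
  have hW : ∀ Z₀ : {Z₀ : Z.Opens // IsAffineOpen Z₀},
      IsClosed (⇑g ⁻¹' (Z₀.1 : Set Z))ᶜ ∧ InvSet s t (⇑g ⁻¹' (Z₀.1 : Set Z))ᶜ := fun Z₀ =>
    ⟨(Z₀.1.2.preimage g.continuous).isClosed_compl, invSet_preimage_compl hg _⟩
  let U : {Z₀ : Z.Opens // IsAffineOpen Z₀} → Y.Opens := fun Z₀ =>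
    ⟨(⇑p '' (⇑g ⁻¹' (Z₀.1 : Set Z))ᶜ)ᶜ, (h.closed _ (hW Z₀).1 (hW Z₀).2).isOpen_compl⟩
  have hU : ∀ Z₀, p ⁻¹ᵁ U Z₀ ≤ g ⁻¹ᵁ Z₀.1 := fun Z₀ x hx => by
    by_contra hx'
    exact hx ⟨x, hx', rfl⟩
  have hcov : TopologicalSpace.IsOpenCover U := by
    refine TopologicalSpace.IsOpenCover.mk ?_
    refine TopologicalSpace.Opens.ext (Set.eq_univ_of_forall fun y => ?_)
    rw [TopologicalSpace.Opens.coe_iSup, Set.mem_iUnion]
    by_contra hy
    have hy' : y ∈ ⋂ Z₀, ⇑p '' (⇑g ⁻¹' (({Z₀} : Set {Z₀ : Z.Opens // IsAffineOpen Z₀}).image fun W => (W.1 : Set Z)).sUnion)ᶜ := by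
      refine Set.mem_iInter.2 fun Z₀ => ?_
      rw [Set.image_singleton, Set.sUnion_singleton]
      by_contra hc
      exact hy ⟨Z₀, hc⟩
    simp only [Set.image_singleton, Set.sUnion_singleton] at hy'
    rw [← h.inter _ _ hW] at hy'
    obtain ⟨x, hx, -⟩ := hy'
    obtain ⟨_, ⟨Z₀, hZ₀, rfl⟩, hxZ, -⟩ :=
      Z.isBasis_affineOpens.exists_subset_of_mem_open (Set.mem_univ (g x)) isOpen_univ
    exact Set.mem_iInter.1 hx ⟨Z₀, hZ₀⟩ hxZ
  have hloc := fun Z₀ : {Z₀ : Z.Opens // IsAffineOpen Z₀} => exists_desc_affine h g hg (U Z₀) Z₀.1 Z₀.2 (hU Z₀)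
  choose f hf using hloc
  let 𝒰 : Y.OpenCover := Y.openCoverOfIsOpenCover U hcov
  have hglue : ∀ i j : {Z₀ : Z.Opens // IsAffineOpen Z₀},
      pullback.fst (U i).ι (U j).ι ≫ f i = pullback.snd (U i).ι (U j).ι ≫ f j := fun i j => by
    let c := IsOpenImmersion.isoOfRangeEq (U i ⊓ U j).ι (pullback.fst (U i).ι (U j).ι ≫ (U i).ι) (by
      rw [IsOpenImmersion.range_pullback_to_base_of_left, Scheme.Opens.range_ι, Scheme.Opens.range_ι,
        Scheme.Opens.range_ι]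
      rfl)
    have hc₁ : c.hom ≫ pullback.fst (U i).ι (U j).ι = Y.homOfLE inf_le_left := by
      rw [← cancel_mono (U i).ι, Category.assoc, Scheme.homOfLE_ι]
      exact IsOpenImmersion.isoOfRangeEq_hom_fac _ _ _
    have hc₂ : c.hom ≫ pullback.snd (U i).ι (U j).ι = Y.homOfLE inf_le_right := by
      rw [← cancel_mono (U j).ι, Category.assoc, Scheme.homOfLE_ι, ← pullback.condition]
      exact IsOpenImmersion.isoOfRangeEq_hom_fac _ _ _
    rw [← cancel_epi c.hom, reassoc_of% hc₁, reassoc_of% hc₂]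
    refine hom_ext h _ ?_
    have e : ∀ (k : {Z₀ : Z.Opens // IsAffineOpen Z₀}) (hk : U i ⊓ U j ≤ U k),
        (p ∣_ (U i ⊓ U j)) ≫ Y.homOfLE hk ≫ f k = (p ⁻¹ᵁ (U i ⊓ U j)).ι ≫ g := fun k hk => by
      have : (p ∣_ (U i ⊓ U j)) ≫ Y.homOfLE hk = X.homOfLE (Scheme.Hom.preimage_mono p hk) ≫ (p ∣_ U k) := by
        rw [← cancel_mono (U k).ι, Category.assoc, Category.assoc, Scheme.homOfLE_ι, morphismRestrict_ι,
          morphismRestrict_ι, Scheme.homOfLE_ι_assoc]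
      rw [← Category.assoc, this, Category.assoc, hf, Scheme.homOfLE_ι_assoc]
    rw [e i inf_le_left, e j inf_le_right]
  refine ⟨𝒰.glueMorphisms f hglue, ?_⟩
  refine Scheme.hom_ext_of_forall _ _ fun x => ?_
  obtain ⟨i, hi⟩ := hcov.exists_mem (p x)
  refine ⟨p ⁻¹ᵁ U i, hi, ?_⟩
  rw [← hf i, ← Category.assoc, ← morphismRestrict_ι, Category.assoc]
  congr 1
  exact 𝒰.ι_glueMorphisms f hglue i

theorem epi {Z : Scheme.{u}} {f₁ f₂ : Y ⟶ Z} (e : p ≫ f₁ = p ≫ f₂) : f₁ = f₂ := by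
  have := hom_ext h (⊤ : Y.Opens) (f₁ := (⊤ : Y.Opens).ι ≫ f₁) (f₂ := (⊤ : Y.Opens).ι ≫ f₂) (by
    rw [morphismRestrict_ι_assoc, morphismRestrict_ι_assoc, e])
  rw [← cancel_epi Y.topIso.hom]
  exact this

section Restrict

variable {R' X' Y' : Scheme.{u}} {s' t' : R' ⟶ X'} {p' : X' ⟶ Y'}
  {jR : R' ⟶ R} {jX : X' ⟶ X} {jY : Y' ⟶ Y} [IsOpenImmersion jR] [IsOpenImmersion jX] [IsOpenImmersion jY]
  (hs : jR ≫ s = s' ≫ jX) (ht : jR ≫ t = t' ≫ jX) (hp : p' ≫ jY = jX ≫ p)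
  (hR : ∀ r, s r ∈ Set.range jX → r ∈ Set.range jR) (hX : ∀ x, p x ∈ Set.range jY → x ∈ Set.range jX)

omit h in
theorem bijective_appLE {A B : Scheme.{u}} (j : A ⟶ B) [IsOpenImmersion j] {W : B.Opens} {W' : A.Opens}
    (hW : W ≤ j.opensRange) (e : W' = j ⁻¹ᵁ W) : Function.Bijective (j.appLE W W' e.le) := by
  subst e
  rw [← Scheme.Hom.app_eq_appLE]
  have := j.isIso_app W hW
  exact ConcreteCategory.bijective_of_isIso (j.app W)

include hs ht hp hR hX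

/-- Restriction over an open of the quotient. -/
theorem restrict : Crit s' t' p' := by
  have hr : ∀ x', p (jX x') ∈ Set.range jY := fun x' =>
    ⟨p' x', by rw [← Scheme.Hom.comp_apply, hp, Scheme.Hom.comp_apply]⟩
  have htr : ∀ r, t r ∈ Set.range jX → r ∈ Set.range jR := fun r ⟨x', hx⟩ => hR r (hX _ (by
    rw [← Scheme.Hom.comp_apply, ← h.w, Scheme.Hom.comp_apply, ← hx]
    exact hr x'))
  have hw : t' ≫ p' = s' ≫ p' := by
    rw [← cancel_mono jY, Category.assoc, Category.assoc, hp, ← reassoc_of% ht, ← reassoc_of% hs, h.w]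
  have hinv : ∀ W : Set X', InvSet s' t' W → InvSet s t (⇑jX '' W ∪ (Set.range jX)ᶜ) := by
    rintro W hW _ ⟨r, hr', rfl⟩
    by_cases hc : t r ∈ Set.range jX
    · obtain ⟨r', rfl⟩ := htr r hc
      rcases hr' with ⟨x, hx, hxr⟩ | hx
      · refine Or.inl ⟨t' r', hW ⟨r', ?_, rfl⟩, ?_⟩
        · rw [Set.mem_preimage, ← jX.isOpenEmbedding.injective.mem_set_image]
          rw [← Scheme.Hom.comp_apply, ← hs, Scheme.Hom.comp_apply, ← hxr]
          exact ⟨x, hx, rfl⟩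
        · rw [← Scheme.Hom.comp_apply, ← ht, Scheme.Hom.comp_apply]
      · exact absurd ⟨s' r', by rw [← Scheme.Hom.comp_apply, ← hs, Scheme.Hom.comp_apply]⟩ hx
    · exact Or.inr hc
  have hcl : ∀ W : Set X', IsClosed W → IsClosed (⇑jX '' W ∪ (Set.range jX)ᶜ) := fun W hW => by
    have e : ⇑jX '' W ∪ (Set.range jX)ᶜ = (⇑jX '' Wᶜ)ᶜ := by
      ext x
      simp only [Set.mem_union, Set.mem_compl_iff, Set.mem_range, Set.mem_image]
      refine ⟨?_, fun hx => ?_⟩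
      · rintro (⟨a, ha, rfl⟩ | hx) ⟨b, hb, he⟩
        · exact hb (jX.isOpenEmbedding.injective he ▸ ha)
        · exact hx ⟨b, he⟩
      · by_cases hr : ∃ y, jX y = x
        · obtain ⟨y, rfl⟩ := hr
          exact Or.inl ⟨y, by_contra fun hy => hx ⟨y, hy, rfl⟩, rfl⟩
        · exact Or.inr hr
    rw [e]
    exact (jX.isOpenEmbedding.isOpenMap _ hW.isOpen_compl).isClosed_compl
  have himg : ∀ W : Set X', ⇑p' '' W = ⇑jY ⁻¹' (⇑p '' (⇑jX '' W ∪ (Set.range jX)ᶜ)) := fun W => by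
    ext y
    refine ⟨?_, ?_⟩
    · rintro ⟨x, hx, rfl⟩
      exact ⟨jX x, Or.inl ⟨x, hx, rfl⟩, by rw [← Scheme.Hom.comp_apply, ← hp, Scheme.Hom.comp_apply]⟩
    · rintro ⟨x, ⟨a, ha, rfl⟩ | hx, hxy⟩
      · exact ⟨a, ha, jY.isOpenEmbedding.injective (by
          rw [← Scheme.Hom.comp_apply, hp, Scheme.Hom.comp_apply, hxy])⟩
      · exact absurd (hX x ⟨y, hxy.symm⟩) hx
  refine ⟨hw, fun O => ?_, fun O f hf => ?_, fun W hW hW' => ?_, fun J W hW => ?_⟩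
  · intro a b hab
    let V := jY ''ᵁ O
    have hO : O = jY ⁻¹ᵁ V := (jY.preimage_image_eq O).symm
    have hV' : p' ⁻¹ᵁ O = jX ⁻¹ᵁ (p ⁻¹ᵁ V) := by
      rw [hO, ← Scheme.Hom.comp_preimage, hp, Scheme.Hom.comp_preimage]
    have hbV := bijective_appLE jY (jY.image_le_opensRange O) hO
    obtain ⟨a, rfl⟩ := hbV.2 a
    obtain ⟨b, rfl⟩ := hbV.2 b
    have hbX := bijective_appLE jX (W := p ⁻¹ᵁ V) (fun x hx => hX x (jY.image_le_opensRange O hx)) hV'
    congr 1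
    refine h.inj V (hbX.1 ?_)
    rw [← ConcreteCategory.comp_apply, ← ConcreteCategory.comp_apply, Scheme.Hom.app_eq_appLE,
      Scheme.Hom.appLE_comp_appLE]
    rw [← ConcreteCategory.comp_apply, ← ConcreteCategory.comp_apply, Scheme.Hom.app_eq_appLE,
      Scheme.Hom.appLE_comp_appLE] at hab
    simp only [hp] at hab
    exact hab
  · let V := jY ''ᵁ O
    have hO : O = jY ⁻¹ᵁ V := (jY.preimage_image_eq O).symm
    have hV' : p' ⁻¹ᵁ O = jX ⁻¹ᵁ (p ⁻¹ᵁ V) := by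
      rw [hO, ← Scheme.Hom.comp_preimage, hp, Scheme.Hom.comp_preimage]
    have hVle : p ⁻¹ᵁ V ≤ jX.opensRange := fun x hx => hX x (jY.image_le_opensRange O hx)
    obtain ⟨g, rfl⟩ := (bijective_appLE jX hVle hV').2 f
    have hT : t' ⁻¹ᵁ (p' ⁻¹ᵁ O) ⊓ s' ⁻¹ᵁ (p' ⁻¹ᵁ O) = jR ⁻¹ᵁ (t ⁻¹ᵁ (p ⁻¹ᵁ V) ⊓ s ⁻¹ᵁ (p ⁻¹ᵁ V)) := by
      rw [Scheme.Hom.preimage_inf, hV', ← Scheme.Hom.comp_preimage t' jX, ← Scheme.Hom.comp_preimage s' jX,
        ← Scheme.Hom.comp_preimage jR t, ← Scheme.Hom.comp_preimage jR s, ht, hs]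
    have hg : InvSec s t (p ⁻¹ᵁ V) g := by
      refine (bijective_appLE jR
        (fun r (hr : r ∈ t ⁻¹ᵁ (p ⁻¹ᵁ V) ⊓ s ⁻¹ᵁ (p ⁻¹ᵁ V)) => hR r (hVle hr.2)) hT).1 ?_
      unfold InvSec at hf
      rw [← ConcreteCategory.comp_apply, ← ConcreteCategory.comp_apply, Scheme.Hom.appLE_comp_appLE,
        Scheme.Hom.appLE_comp_appLE] at hf
      rw [← ConcreteCategory.comp_apply, ← ConcreteCategory.comp_apply, Scheme.Hom.appLE_comp_appLE,
        Scheme.Hom.appLE_comp_appLE]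
      simp only [hs, ht]
      exact hf
    obtain ⟨b, rfl⟩ := h.sec V g hg
    refine ⟨jY.appLE V O hO.le b, ?_⟩
    rw [← ConcreteCategory.comp_apply, ← ConcreteCategory.comp_apply, Scheme.Hom.app_eq_appLE,
      Scheme.Hom.app_eq_appLE, Scheme.Hom.appLE_comp_appLE, Scheme.Hom.appLE_comp_appLE]
    simp only [hp]
  · rw [himg]
    exact (h.closed _ (hcl W hW) (hinv W hW')).preimage jY.continuous
  · have e : ⇑jX '' (⋂ i, W i) ∪ (Set.range jX)ᶜ = ⋂ i, (⇑jX '' W i ∪ (Set.range jX)ᶜ) := by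
      ext x
      by_cases hx : x ∈ Set.range jX
      · obtain ⟨a, rfl⟩ := hx
        simp [jX.isOpenEmbedding.injective.mem_set_image]
      · simp [hx]
    rw [himg, e, h.inter J _ (fun i => ⟨hcl _ (hW i).1, hinv _ (hW i).2⟩), Set.preimage_iInter]
    exact Set.iInter_congr fun i => (himg (W i)).symm

end Restrict

omit h

end Groth.AlgStCover.InvQuot

namespace Groth.AlgStCover

open MonoidalCategory CartesianMonoidalCategory InvQuot

variable {S : Scheme.{u}} {G X Y : Over S} [GrpObj G] {a : AlgGrp.Action G X} {φ : X ⟶ Y}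

theorem isCatQuot_of_crit (h : Crit (snd G X).left a.act.left φ.left) : GIT.IsCatQuot a φ := by
  refine ⟨Over.OverMorphism.ext h.w, fun Z ψ hψ => ?_⟩
  obtain ⟨f, hf⟩ := exists_desc h ψ.left (congrArg CommaMorphism.left hψ)
  refine ⟨Over.homMk f (epi h (by rw [reassoc_of% hf, Over.w ψ, Over.w φ])),
    Over.OverMorphism.ext hf, fun χ hχ => Over.OverMorphism.ext (epi h ?_)⟩
  rw [← Over.comp_left, hχ]
  exact hf.symm

theorem crit_of_hyps (hi : GIT.IsInvariant a φ)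
    (hii : ∀ U : Y.left.Opens,
      Function.Injective (φ.left.app U) ∧ Set.range (φ.left.app U) = {f | GIT.IsInvSection a φ U f})
    (hiii : ∀ W : Set X.left, IsClosed W → ⇑a.act.left '' (⇑(snd G X).left ⁻¹' W) ⊆ W →
      IsClosed (⇑φ.left '' W))
    (hiii' : ∀ (J : Type u) (W : J → Set X.left),
      (∀ i, IsClosed (W i) ∧ ⇑a.act.left '' (⇑(snd G X).left ⁻¹' W i) ⊆ W i) →
      ⇑φ.left '' (⋂ i, W i) = ⋂ i, ⇑φ.left '' W i) :
    Crit (snd G X).left a.act.left φ.left where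
  w := hi.left
  inj U := (hii U).1
  sec U f hf := by
    rw [(hii U).2]
    exact hf
  closed := hiii
  inter := hiii'

end Groth.AlgStCover
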