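import Groth.Agent.AlgStBasic.SetoidSpace
import Groth.Agent.AlgStBasic.StabilizerFree
import Groth.Agent.AlgStBasic.OpenSub
import Groth.Agent.AlgStBasic.LocalLift
import Groth.Agent.AlgSpBasic.Glue
import Groth.Agent.AlgSpBasic.Compact
import Groth.Agent.FppfBoot.SchemeRep
import Groth.Agent.AlgStImm.Criteria

/-!
# Stacks covered by open substacks which are spaces or schemes
-/

set_option autoImplicit false
set_option backward.isDefEq.respectTransparency false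
set_option backward.isDefEq.respectTransparency.types false

universe w u

open CategoryTheory CategoryTheory.Limits AlgebraicGeometry Opposite
open Groth.StkBase Groth.AlgStBasic Groth.AlgSpBasic

noncomputable section

namespace Groth.AlgStCover

variable {S : Scheme.{u}} {𝒳 : AlgSt.Cat S} {ι : Type w} {Q : ι → 𝒳.obj → Prop}

/-- Field-valued objects lie in one of the open substacks. -/
theorem exists_mem (h𝒳 : AlgSt.IsAlgStack Scheme.fppfPrecoverage 𝒳)
    (hQ : ∀ i, AlgSt.IsOpenSubstack 𝒳 (Q i) Scheme.fppfPrecoverage)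
    (hcov : ⋃ i, Set.range (AlgSt.Points.map (AlgSt.subIncl 𝒳 (Q i))) = Set.univ)
    (p : AlgSt.FPt 𝒳) : ∃ i, Q i p.obj := by
  obtain ⟨i, hi⟩ := Set.mem_iUnion.1 (hcov.symm ▸ Set.mem_univ (AlgSt.Points.mk p))
  refine ⟨i, (isOpenSubstack_eq h𝒳 (hQ i) p.obj).2 ?_⟩
  rintro q ⟨φ⟩
  rwa [mk_eq_of_hom φ]

/-- A stack covered by open substacks in setoids has trivial stabilizers. -/
theorem trivialFieldAut (h𝒳 : AlgSt.IsAlgStack Scheme.fppfPrecoverage 𝒳)
    (hQ : ∀ i, AlgSt.IsOpenSubstack 𝒳 (Q i) Scheme.fppfPrecoverage)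
    (hcov : ⋃ i, Set.range (AlgSt.Points.map (AlgSt.subIncl 𝒳 (Q i))) = Set.univ)
    (hsp : ∀ i, AlgSt.RepByAlgSp (AlgSt.fullSub 𝒳 (Q i))) :
    TrivialFieldAut (FibCat.toSelf 𝒳) := by
  intro k _ sk x T φ hφ _
  obtain ⟨i, hi⟩ := exists_mem h𝒳 hQ hcov
    { K := k, str := sk, obj := x.obj (idObj _), lies := x.w_obj _ }
  have hT : Q i (x.obj T) :=
    (isOpenSubstack_eq h𝒳 (hQ i) _).2
      (inPts_of_hom (x.map (toId T)) ((isOpenSubstack_eq h𝒳 (hQ i) _).1 hi))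
  have hS := isFibSetoid_of_repByAlgSp (hsp i)
  let a : (AlgSt.fullSub 𝒳 (Q i)).obj := ⟨x.obj T, hT⟩
  let ψ : a ⟶ a := ObjectProperty.homMk φ
  have hψ : IsVert (AlgSt.fullSub 𝒳 (Q i)).p ψ := ⟨rfl, hφ.map_eq⟩
  have hid := (isVert_id (p := (AlgSt.fullSub 𝒳 (Q i)).p) a).isHomLift (R := 𝒳.p.obj (x.obj T)) rfl
  have := hψ.isHomLift (R := 𝒳.p.obj (x.obj T)) rfl
  let A : (AlgSt.fullSub 𝒳 (Q i)).p.Fiber (𝒳.p.obj (x.obj T)) := ⟨a, rfl⟩
  have h := congrArg Subtype.val ((hS.2 _ A A).allEq ⟨ψ, this⟩ ⟨𝟙 a, hid⟩)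
  exact congrArg (fun t : a ⟶ a => t.hom) h

/-- A stack covered by open substacks which are algebraic spaces is an algebraic space. -/
theorem repByAlgSp_of_cover (h𝒳 : AlgSt.IsAlgStack Scheme.fppfPrecoverage 𝒳)
    (hQ : ∀ i, AlgSt.IsOpenSubstack 𝒳 (Q i) Scheme.fppfPrecoverage)
    (hcov : ⋃ i, Set.range (AlgSt.Points.map (AlgSt.subIncl 𝒳 (Q i))) = Set.univ)
    (hsp : ∀ i, AlgSt.RepByAlgSp (AlgSt.fullSub 𝒳 (Q i))) : AlgSt.RepByAlgSp 𝒳 :=
  (isFibSetoid_iff_repByAlgSp h𝒳).1 ((isFibSetoid_iff_faithful_toSelf h𝒳.isStack.1).2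
    (faithful_of_trivialFieldAut h𝒳.isStack.1 isFibGrpd_selfOver
      (repWith_inertiaToBase _ (repWith_lft_diag_toSelf h𝒳))
      (trivialFieldAut h𝒳 hQ hcov hsp)))

theorem spPt_map {F G : AlgSp.Sp S} (a : F ⟶ G) (x : AlgSp.Points F) :
    spPt (AlgSp.Points.map a x) = AlgSt.Points.map (AlgSt.ofSpMap a) (spPt x) := by
  induction x using AlgSp.Points.ind with
  | h p => rfl

/-- An open immersion of stacks into a space from a scheme is one of schemes. -/
theorem repWith_openImm {F : AlgSp.Sp S} {V : Over S} (p : (AlgSp.yon S).obj V ⟶ F)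
    (h : AlgSt.RepByAlgSpWith (AlgSp.RepWith @IsOpenImmersion) (AlgSt.ofSpMap p)) :
    AlgSp.RepWith @IsOpenImmersion p := by
  have hp : AlgSp.RepBySpWith (AlgSp.RepWith @IsOpenImmersion) p.hom :=
    repBySpWith_of_repByAlgSpWith h
  refine repWith_of_exists fun T g => ?_
  have sq := IsPullback.of_hasPullback p g
  obtain ⟨hs, -, hq⟩ := hp g.hom (pullback.fst p g).hom (pullback.snd p g).hom
    (sq.map (sheafToPresheaf (AlgSp.J S) (Type (u + 1))))
  have hq' : AlgSp.RepWith @IsOpenImmersion (pullback.snd p g) := hq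
  obtain ⟨G, snd, fst, sqG⟩ := hq'.rep (𝟙 ((AlgSp.yon S).obj T))
  have : IsIso fst := sqG.isIso_fst_of_isIso
  refine ⟨G, fst ≫ pullback.fst p g, snd, ?_, hq'.property _ fst snd sqG⟩
  have hw : fst ≫ pullback.snd p g = (AlgSp.yon S).map snd := by
    rw [sqG.w, Category.comp_id]
  exact sq.of_iso (asIso fst).symm (Iso.refl _) (Iso.refl _) (Iso.refl _) (by simp) (by simp [← hw])
    (by simp) (by simp)

/-- A stack covered by open substacks which are schemes is a scheme. -/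
theorem isRepresentable_of_cover (h𝒳 : AlgSt.IsAlgStack Scheme.fppfPrecoverage 𝒳)
    (hQ : ∀ i, AlgSt.IsOpenSubstack 𝒳 (Q i) Scheme.fppfPrecoverage)
    (hcov : ⋃ i, Set.range (AlgSt.Points.map (AlgSt.subIncl 𝒳 (Q i))) = Set.univ)
    (hsch : ∀ i, FibCat.IsRepresentable (AlgSt.fullSub 𝒳 (Q i))) :
    FibCat.IsRepresentable 𝒳 := by
  obtain ⟨F, e, he⟩ := repByAlgSp_of_cover h𝒳 hQ hcov fun i => by
    obtain ⟨U, G, hG⟩ := hsch i
    obtain ⟨G', hG', -, -⟩ := isEquivOver_symm hG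
    exact repByAlgSp_of_equiv hG' (repByAlgSp_overCat U)
  obtain ⟨e', he', -, ⟨b⟩⟩ := isEquivOver_symm he
  obtain ⟨A, x, -, hxs⟩ := h𝒳.atlas
  have hsel : ∀ t : ↥A.left, ∃ i, AlgSt.Points.ofChart x t ∈
      Set.range (AlgSt.Points.map (AlgSt.subIncl 𝒳 (Q i))) := fun t =>
    Set.mem_iUnion.1 (hcov.symm ▸ Set.mem_univ _)
  choose i hi using hsel
  choose U E hE using hsch
  choose E' hE' _ _ using fun j => isEquivOver_symm (hE j)
  let Φ : ∀ t : ↥A.left, AlgSt.ofSp ((AlgSp.yon S).obj (U (i t))) ⥤ᵇ AlgSt.ofSp F.obj := fun t =>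
    BasedFunctor.comp (AlgSt.toOverCat (U (i t)))
      (BasedFunctor.comp (BasedFunctor.comp (E' (i t)) (AlgSt.subIncl 𝒳 (Q (i t)))) e')
  let f : ∀ t : ↥A.left, (AlgSp.yon S).obj (U (i t)) ⟶ F.obj := fun t => mapOf (Φ t)
  have hf : ∀ t, AlgSp.RepWith @IsOpenImmersion (f t) := fun t => by
    refine repWith_openImm _ (repWith_of_iso (nonempty_iso_mapOf (Φ t)).some ?_)
    exact (repWith_precomp_equiv (isEquivOver_toOverCat _) _).2
      ((repWith_postcomp_equiv _ he').2 ((repWith_precomp_equiv (hE' (i t)) _).2 (hQ (i t)).2.2))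
  obtain ⟨G, ⟨γ⟩⟩ := exists_iso_yon_of_openImmersions (X := fun t => U (i t)) (f := f) hf
    fun T g z => by
      let q : AlgSt.Points 𝒳 := AlgSt.Points.map e (spPt (AlgSp.Points.ofPt g z))
      obtain ⟨t, ht⟩ := surjective_ofChart h𝒳.isStack.1 hxs q
      obtain ⟨r, hr⟩ := hi t
      obtain ⟨r', rfl⟩ := (bijective_map_of_isEquivOver (hE' (i t))).2 r
      obtain ⟨r'', rfl⟩ :=
        (bijective_map_of_isEquivOver (isEquivOver_toOverCat (U (i t)))).2 r'
      obtain ⟨y, rfl⟩ := bijective_spPt.2 r''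
      have hy : AlgSp.Points.map (f t) y = AlgSp.Points.ofPt g z := by
        refine bijective_spPt.1 ((bijective_map_of_isEquivOver he).1 ?_)
        show _ = q
        rw [spPt_map, ← map_eq_of_iso (nonempty_iso_mapOf (Φ t)).some, ← ht, ← hr]
        simp only [Φ, map_comp]
        rw [← map_comp e' e, map_eq_of_iso b, map_id]
      obtain ⟨V, snd, fst, sq⟩ := (hf t).rep g
      obtain ⟨v, -, hv⟩ := (map_eq_ofPt_iff sq y z).1 hy
      exact ⟨t, V, fst, snd, sq, v, hv⟩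
  refine ⟨G, ?_⟩
  obtain ⟨K, hK, -, -⟩ := isEquivOver_symm (isEquivOver_comp (isEquivOver_ofOverCat G)
    (isEquivOver_comp (Groth.AlgStImm.isEquivOver_ofSpMap γ) he))
  exact ⟨K, hK⟩

end Groth.AlgStCover
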