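import Groth.Agent.AlgStCover.ImmImage
import Groth.Agent.StkGerb.LargestSmooth
import Groth.Agent.AlgStBasic.RepDescend
import Groth.Agent.AlgStBasic.SpaceProps
import Groth.Agent.AlgStBasic.StCompact
import Groth.Agent.AlgStCover.OpenCover

/-!
# Largest open substacks on which a representable morphism has a property
-/

set_option autoImplicit false
set_option backward.isDefEq.respectTransparency false
set_option backward.isDefEq.respectTransparency.types false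

universe u

open CategoryTheory CategoryTheory.Limits AlgebraicGeometry Topology
open Groth.StkBase Groth.AlgStBasic

noncomputable section

namespace Groth.AlgStCover

variable {S : Scheme.{u}} {𝒳 𝒳' 𝒴 𝒵 : AlgSt.Cat S} {P Q R : MorphismProperty (AlgSp.Sp S)}

/-- `π` has `P` on the open set of points `T`. -/
def Good (P : MorphismProperty (AlgSp.Sp S)) (π : 𝒳 ⥤ᵇ 𝒴) (T : Set (AlgSt.Points 𝒳)) : Prop :=
  IsOpen T ∧ AlgSt.RepByAlgSpWith P (BasedFunctor.comp (AlgSt.subIncl 𝒳 (inPts T)) π)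

/-- `T` is the largest open set of points on which `π` has `P`. -/
def Largest (P : MorphismProperty (AlgSp.Sp S)) (π : 𝒳 ⥤ᵇ 𝒴) (T : Set (AlgSt.Points 𝒳)) : Prop :=
  Good P π T ∧ ∀ T', Good P π T' → T' ⊆ T

section Transport

variable (hX : AlgSt.IsAlgStack Scheme.fppfPrecoverage 𝒳)
  (hX' : AlgSt.IsAlgStack Scheme.fppfPrecoverage 𝒳')

/-- The restriction of a functor to the preimage of a set of points. -/
def preLift (g : 𝒳' ⥤ᵇ 𝒳) (T : Set (AlgSt.Points 𝒳)) :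
    AlgSt.fullSub 𝒳' (inPts (AlgSt.Points.map g ⁻¹' T)) ⥤ᵇ AlgSt.fullSub 𝒳 (inPts T) where
  toFunctor := ObjectProperty.lift _
    ((AlgSt.subIncl 𝒳' (inPts (AlgSt.Points.map g ⁻¹' T))).toFunctor ⋙ g.toFunctor)
    fun a => (Groth.StkGerb.inPts_map_iff hX hX' g T a.obj).1 a.property
  w := (BasedFunctor.comp (AlgSt.subIncl 𝒳' (inPts (AlgSt.Points.map g ⁻¹' T))) g).w

variable (z : 𝒵 ⥤ᵇ 𝒴) (f : 𝒳 ⥤ᵇ 𝒴) (T : Set (AlgSt.Points 𝒳))

/-- The open substack over a set of points of the base change. -/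
def preFp (hP : AlgSt.IsAlgStack Scheme.fppfPrecoverage (FibCat.fp z f)) :
    AlgSt.fullSub (FibCat.fp z f) (inPts (AlgSt.Points.map (FibCat.fpSnd z f) ⁻¹' T)) ⥤ᵇ
      FibCat.fp z (BasedFunctor.comp (AlgSt.subIncl 𝒳 (inPts T)) f) :=
  FibCat.fpLift
    (BasedFunctor.comp (AlgSt.subIncl (FibCat.fp z f) (inPts (AlgSt.Points.map (FibCat.fpSnd z f) ⁻¹' T)))
      (FibCat.fpFst z f))
    (preLift hX hP (FibCat.fpSnd z f) T)
    (whiskerLeftIso
      (AlgSt.subIncl (FibCat.fp z f) (inPts (AlgSt.Points.map (FibCat.fpSnd z f) ⁻¹' T)))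
      (FibCat.fpIso z f))

theorem isEquivOver_preFp (hP : AlgSt.IsAlgStack Scheme.fppfPrecoverage (FibCat.fp z f)) :
    FibCat.IsEquivOver (preFp hX z f T hP) := by
  refine isEquivOver_of_fullyFaithful _ ⟨fun {a b} φ => ?_⟩ ⟨fun {a b} φ ψ h => ?_⟩ fun c => ?_
  · exact ⟨ObjectProperty.homMk (fpHom φ.hom.fst φ.hom.snd.hom φ.hom.w), rfl⟩
  · exact ObjectProperty.hom_ext _ (fp_hom_ext (congrArg (fun t => t.hom.fst) h)
      (congrArg (fun t => t.hom.snd.hom) h))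
  · let x : (FibCat.fp z f).obj := fpMk c.obj.fst c.obj.snd.obj c.obj.iso (fp_isVert c)
    have hx : inPts (AlgSt.Points.map (FibCat.fpSnd z f) ⁻¹' T) x :=
      (Groth.StkGerb.inPts_map_iff hX hP (FibCat.fpSnd z f) T x).2 c.obj.snd.property
    refine ⟨⟨x, hx⟩, fpObjIso (Iso.refl _) (Iso.refl _) ?_, isVert_id _⟩
    simp [preFp, preLift, x, fpMk, FibCat.fpLift, isoApp, FibCat.fpIso, whiskerLeftIso,
      BasedNatIso.mkNatIso, AlgSt.subIncl]
    rfl

include hX in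
/-- Base change preserves having the property on an open set. -/
theorem Good.baseChange (hY : AlgSt.IsAlgStack Scheme.fppfPrecoverage 𝒴)
    (hZ : AlgSt.IsAlgStack Scheme.fppfPrecoverage 𝒵) (h : Good P f T) :
    Good P (FibCat.fpFst z f) (AlgSt.Points.map (FibCat.fpSnd z f) ⁻¹' T) := by
  have hP := isAlgStack_fp hY.isStack hY.diag hZ hX z f
  refine ⟨h.1.preimage (continuous_map hX _), repWith_of_iso (Iso.refl _)
    ((repWith_precomp_equiv (isEquivOver_preFp hX z f T hP) _).2 (repWith_fpFst _ z h.2))⟩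

include hX hX' in
/-- Having the property on an open set is invariant under equivalences of the source. -/
theorem Good.equiv {π : 𝒳 ⥤ᵇ 𝒴} {π' : 𝒳' ⥤ᵇ 𝒴} (E : 𝒳' ⥤ᵇ 𝒳) (hE : FibCat.IsEquivOver E)
    (β : BasedFunctor.comp E π ≅ π') {T : Set (AlgSt.Points 𝒳)} (h : Good P π T) :
    Good P π' (AlgSt.Points.map E ⁻¹' T) := by
  refine ⟨h.1.preimage (continuous_map hX E), ?_⟩
  have := full_of_isEquivOver hE
  have := faithful_of_isEquivOver hE
  have hL : FibCat.IsEquivOver (preLift hX hX' E T) := by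
    refine isEquivOver_of_fullyFaithful _ ⟨fun {a b} φ => ?_⟩ ⟨fun {a b} φ ψ h => ?_⟩ fun c => ?_
    · exact ⟨ObjectProperty.homMk (E.toFunctor.preimage φ.hom),
        ObjectProperty.hom_ext _ (E.toFunctor.map_preimage φ.hom)⟩
    · exact ObjectProperty.hom_ext _ (E.toFunctor.map_injective (congrArg (fun t => t.hom) h))
    · obtain ⟨x, e, he⟩ := Groth.StkBase.exists_vert_preimage hE c.obj
      exact ⟨⟨x, (Groth.StkGerb.inPts_map_iff hX hX' E T x).2 (inPts_of_hom e.hom c.property)⟩,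
        ObjectProperty.isoMk _ e, he⟩
  exact repWith_of_iso (whiskerLeftIso (AlgSt.subIncl 𝒳' (inPts (AlgSt.Points.map E ⁻¹' T))) β :)
    ((repWith_precomp_equiv hL _).2 h.2)

end Transport

section Spaces

variable (hPb : StableBaseChange P) (hP : AlgSp.IsLocalOnBase AlgSp.IsFppfCover P)

/-- The points of an open subspace. -/
def spRange {X W : AlgSp.Space S} (w : W ⟶ X) : Set (AlgSt.Points (AlgSt.ofSp X.obj)) :=
  Set.range (AlgSt.Points.map (AlgSt.ofSpMap w.hom))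

theorem isAlgStack_ofSp (X : AlgSp.Space S) :
    AlgSt.IsAlgStack Scheme.fppfPrecoverage (AlgSt.ofSp X.obj : AlgSt.Cat S) :=
  isAlgStack_of_repByAlgSp ⟨X, _, isEquivOver_id _⟩

include hPb in
theorem good_spRange {X W : AlgSp.Space S} {V : AlgSp.Space S} (f : X ⟶ V) (w : W ⟶ X)
    (hw : AlgSp.RepWith @IsOpenImmersion w.hom) (hwP : P (w ≫ f).hom) :
    Good P (AlgSt.ofSpMap f.hom) (spRange w) := by
  have hX := isAlgStack_ofSp X
  have hW := isAlgStack_ofSp W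
  have hi : AlgSt.IsOpenImm (AlgSt.ofSpMap w.hom) :=
    repWith_ofPshMap_of_stable (F := W) (G := X) (stableBaseChange_repWith _) w.hom hw
  have hm : AlgSt.IsMono (AlgSt.ofSpMap w.hom) := isMono_of_isImm
    (repWith_mono (fun _ _ _ _ _ h => Groth.AlgSpBasic.repWith_mono
      (fun _ _ g (_ : IsOpenImmersion g) => (inferInstance : IsImmersion g)) h) hi)
  have hO : IsOpen (spRange w) := (isOpenMap_map_of_isOpenImm hW hX.isStack.1 hi).isOpen_range
  have hQ : AlgSt.IsOpenSubstack (AlgSt.ofSp X.obj) (imPred (AlgSt.ofSpMap w.hom))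
      Scheme.fppfPrecoverage :=
    ⟨⟨fun e ⟨z, ⟨φ⟩⟩ => ⟨z, ⟨φ ≪≫ e⟩⟩⟩, isAlgStack_image _ hW.isStack.1 hX hm,
      repWith_subIncl _ hW.isStack.1 hX.isStack.1 hm hi⟩
  have hE := isEquivOver_toImage _ hW.isStack.1 hX.isStack.1 hm
  have e : imPred (AlgSt.ofSpMap w.hom) = inPts (spRange w) := by
    funext x
    refine propext ?_
    rw [isOpenSubstack_eq hX hQ x]
    have hr : Set.range (AlgSt.Points.map (AlgSt.subIncl (AlgSt.ofSp X.obj) (imPred (AlgSt.ofSpMap w.hom))))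
        = spRange w := by
      apply Set.ext
      intro p
      constructor
      · rintro ⟨r, rfl⟩
        obtain ⟨r', rfl⟩ := (bijective_map_of_isEquivOver hE).2 r
        exact ⟨r', map_comp (toImage (AlgSt.ofSpMap w.hom))
          (AlgSt.subIncl (AlgSt.ofSp X.obj) (imPred (AlgSt.ofSpMap w.hom))) r'⟩
      · rintro ⟨r, rfl⟩
        exact ⟨AlgSt.Points.map (toImage (AlgSt.ofSpMap w.hom)) r, (map_comp (toImage (AlgSt.ofSpMap w.hom))
          (AlgSt.subIncl (AlgSt.ofSp X.obj) (imPred (AlgSt.ofSpMap w.hom))) r).symm⟩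
    rw [hr]
  refine ⟨hO, ?_⟩
  rw [← e]
  refine (repWith_precomp_equiv hE _).1 (repWith_of_iso ?_
    (repWith_ofPshMap_of_stable (F := W) (G := V) hPb (w ≫ f).hom hwP))
  exact eqToIso (ofPshMap_comp w.hom.hom f.hom.hom)

include hPb hP in
theorem largest_spRange {X W : AlgSp.Space S} {V : AlgSp.Space S} (f : X ⟶ V) (w : W ⟶ X)
    (h : AlgSp.RepWith @IsOpenImmersion w.hom ∧ P (w ≫ f).hom ∧
      ∀ (W₁ : AlgSp.Space S) (w₁ : W₁ ⟶ X), AlgSp.RepWith @IsOpenImmersion w₁.hom → P (w₁ ≫ f).hom →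
        ∃ k : W₁ ⟶ W, k ≫ w = w₁) : Largest P (AlgSt.ofSpMap f.hom) (spRange w) := by
  refine ⟨good_spRange hPb f w h.1 h.2.1, fun T hT => ?_⟩
  have hX := isAlgStack_ofSp X
  have hi := isOpenImm_subIncl_inPts hX hT.1
  obtain ⟨W₁, e₁, he₁⟩ := repByAlgSp_of_repByAlgSp1_to_space (isFibGrpd_inPts T hX.isStack.1)
    (AlgSt.subIncl (AlgSt.ofSp X.obj) (inPts T)) (repWith_repByAlgSp1 hi)
  let Φ := BasedFunctor.comp e₁ (AlgSt.subIncl (AlgSt.ofSp X.obj) (inPts T))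
  let w₁ : W₁ ⟶ X := ObjectProperty.homMk (mapOf Φ)
  have hw₁ : AlgSp.RepWith @IsOpenImmersion w₁.hom :=
    prop_mapOf_of_repWith (stableBaseChange_repWith _)
      (descendsAlongAtlas_of_isLocalOnBase isLocalOnBase_fppf_openImm) W₁.property X.property
      ((repWith_precomp_equiv he₁ _).2 hi)
  have hwP : P (w₁ ≫ f).hom := by
    show P (mapOf Φ ≫ f.hom)
    rw [← mapOf_ofSpMap f.hom, ← mapOf_comp]
    exact prop_mapOf_of_repWith hPb (descendsAlongAtlas_of_isLocalOnBase hP) W₁.property V.property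
      ((repWith_precomp_equiv he₁ _).2 hT.2)
  obtain ⟨k, hk⟩ := h.2.2 W₁ w₁ hw₁ hwP
  intro p hp
  obtain ⟨r, hr⟩ : p ∈ Set.range (AlgSt.Points.map (AlgSt.subIncl (AlgSt.ofSp X.obj) (inPts T))) := by
    rw [range_subIncl_inPts_eq]; exact hp
  obtain ⟨r', rfl⟩ := (bijective_map_of_isEquivOver he₁).2 r
  refine ⟨AlgSt.Points.map (AlgSt.ofSpMap k.hom) r', ?_⟩
  rw [← hr, ← map_comp, ← map_comp]
  refine congrFun (map_eq_of_iso ?_) r'
  refine (eqToIso (ofPshMap_comp k.hom.hom w.hom.hom).symm).trans ?_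
  exact (eqToIso (congrArg (fun t : W₁ ⟶ X => AlgSt.ofSpMap t.hom) hk)).trans
    (nonempty_iso_mapOf Φ).some.symm

include hPb hP in
/-- Existence of largest open sets for maps of spaces. -/
theorem exists_largest_of_spaces
    (h₃ : ∀ (X Y : AlgSp.Space S) (f : X ⟶ Y), Q f.hom →
      ∃ (W : AlgSp.Space S) (w : W ⟶ X), (AlgSp.RepWith @IsOpenImmersion w.hom ∧ P (w ≫ f).hom ∧
          ∀ (W₁ : AlgSp.Space S) (w₁ : W₁ ⟶ X), AlgSp.RepWith @IsOpenImmersion w₁.hom → P (w₁ ≫ f).hom →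
            ∃ k : W₁ ⟶ W, k ≫ w = w₁))
    {X V : AlgSp.Space S} (f : X ⟶ V) (hf : Q f.hom) :
    ∃ T, Largest P (AlgSt.ofSpMap f.hom) T := by
  obtain ⟨W, w, hw⟩ := h₃ X V f hf
  exact ⟨_, largest_spRange hPb hP f w hw⟩

theorem Largest.unique {π : 𝒳 ⥤ᵇ 𝒴} {T T' : Set (AlgSt.Points 𝒳)} (h : Largest P π T)
    (h' : Largest P π T') : T = T' :=
  (h'.2 T h.1).antisymm (h.2 T' h'.1)

include hPb hP in
/-- Largest open sets are compatible with base change along maps of spaces with `R`. -/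
theorem largest_baseChange_spaces
    (h₃ : ∀ (X Y : AlgSp.Space S) (f : X ⟶ Y), Q f.hom →
      ∃ (W : AlgSp.Space S) (w : W ⟶ X), (AlgSp.RepWith @IsOpenImmersion w.hom ∧ P (w ≫ f).hom ∧
          ∀ (W₁ : AlgSp.Space S) (w₁ : W₁ ⟶ X), AlgSp.RepWith @IsOpenImmersion w₁.hom → P (w₁ ≫ f).hom →
            ∃ k : W₁ ⟶ W, k ≫ w = w₁))
    (h₄ : ∀ (X Y X' Y' : AlgSp.Space S) (f : X ⟶ Y) (g : Y' ⟶ Y) (f' : X' ⟶ Y') (g' : X' ⟶ X),
      IsPullback g'.hom f'.hom f.hom g.hom → Q f.hom → R g.hom →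
      ∀ (W : AlgSp.Space S) (w : W ⟶ X), (AlgSp.RepWith @IsOpenImmersion w.hom ∧ P (w ≫ f).hom ∧
          ∀ (W₁ : AlgSp.Space S) (w₁ : W₁ ⟶ X), AlgSp.RepWith @IsOpenImmersion w₁.hom → P (w₁ ≫ f).hom →
            ∃ k : W₁ ⟶ W, k ≫ w = w₁) →
        ∀ (W' : AlgSp.Space S) (w' : W' ⟶ X') (k : W' ⟶ W), IsPullback k.hom w'.hom w.hom g'.hom →
          (AlgSp.RepWith @IsOpenImmersion w'.hom ∧ P (w' ≫ f').hom ∧
          ∀ (W₁ : AlgSp.Space S) (w₁ : W₁ ⟶ X'), AlgSp.RepWith @IsOpenImmersion w₁.hom → P (w₁ ≫ f').hom →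
            ∃ k : W₁ ⟶ W', k ≫ w' = w₁))
    {X V V' : AlgSp.Space S} (f : X ⟶ V) (hf : Q f.hom) (g : V' ⟶ V) (hg : R g.hom)
    {T : Set (AlgSt.Points (AlgSt.ofSp X.obj))} (hT : Largest P (AlgSt.ofSpMap f.hom) T) :
    Largest P (FibCat.fpFst (AlgSt.ofSpMap g.hom) (AlgSt.ofSpMap f.hom))
      (AlgSt.Points.map (FibCat.fpSnd (AlgSt.ofSpMap g.hom) (AlgSt.ofSpMap f.hom)) ⁻¹' T) := by
  have hX := isAlgStack_ofSp X
  have hV := isAlgStack_ofSp V
  have hV' := isAlgStack_ofSp V'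
  have hF := isAlgStack_fp hV.isStack hV.diag hV' hX (AlgSt.ofSpMap g.hom) (AlgSt.ofSpMap f.hom)
  refine ⟨Good.baseChange hX _ _ T hV hV' hT.1, fun T' hT' => ?_⟩
  obtain ⟨W, w, hw⟩ := h₃ X V f hf
  obtain rfl := hT.unique (largest_spRange hPb hP f w hw)
  let X' : AlgSp.Space S :=
    ⟨pullback f.hom g.hom, Groth.AlgSpBasic.isAlgSpace_pullback X V' V f.hom g.hom⟩
  let f' : X' ⟶ V' := ObjectProperty.homMk (pullback.snd f.hom g.hom)
  let g' : X' ⟶ X := ObjectProperty.homMk (pullback.fst f.hom g.hom)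
  let W' : AlgSp.Space S :=
    ⟨pullback w.hom g'.hom, Groth.AlgSpBasic.isAlgSpace_pullback W X' X w.hom g'.hom⟩
  let w' : W' ⟶ X' := ObjectProperty.homMk (pullback.snd w.hom g'.hom)
  let k : W' ⟶ W := ObjectProperty.homMk (pullback.fst w.hom g'.hom)
  have sqX : IsPullback g'.hom f'.hom f.hom g.hom := IsPullback.of_hasPullback _ _
  have sqW : IsPullback k.hom w'.hom w.hom g'.hom := IsPullback.of_hasPullback _ _
  have hL := largest_spRange hPb hP f' w' (h₄ X V X' V' f g f' g' sqX hf hg W w hw W' w' k sqW)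
  have sqP := sqX.flip.map (sheafToPresheaf (AlgSp.J S) (Type (u + 1)))
  let E : AlgSt.ofSp X'.obj ⥤ᵇ FibCat.fp (AlgSt.ofSpMap g.hom) (AlgSt.ofSpMap f.hom) :=
    pshFpLift sqP.w
  have hE : FibCat.IsEquivOver E := isEquivOver_pshFpLift sqP
  have h₁ := hL.2 _ (Good.equiv hF (isAlgStack_ofSp X') E hE (Iso.refl _) hT')
  intro p hp
  obtain ⟨q, rfl⟩ := (bijective_map_of_isEquivOver hE).2 p
  obtain ⟨r, rfl⟩ := h₁ hp
  refine ⟨AlgSt.Points.map (AlgSt.ofSpMap k.hom) r, ?_⟩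
  rw [← map_comp, ← map_comp, ← map_comp]
  refine congrFun (map_eq_of_iso ?_) r
  exact eqToIso ((ofPshMap_comp k.hom.hom w.hom.hom).symm.trans
    ((congrArg (fun t : W'.obj ⟶ X.obj => AlgSt.ofSpMap t) sqW.w).trans
      (ofPshMap_comp w'.hom.hom g'.hom.hom)))

end Spaces

section Main

variable (hX : AlgSt.IsAlgStack Scheme.fppfPrecoverage 𝒳)
  (hY : AlgSt.IsAlgStack Scheme.fppfPrecoverage 𝒴) (f : 𝒳 ⥤ᵇ 𝒴)
  (hPb : StableBaseChange P) (hQb : StableBaseChange Q) (hRb : StableBaseChange R)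
  (hP : AlgSp.IsLocalOnBase AlgSp.IsFppfCover P) (hQ : AlgSp.IsLocalOnBase AlgSp.IsFppfCover Q)
  (hR : AlgSp.IsLocalOnBase AlgSp.IsFppfCover R)
  (h₃ : ∀ (X Y : AlgSp.Space S) (f : X ⟶ Y), Q f.hom →
      ∃ (W : AlgSp.Space S) (w : W ⟶ X), (AlgSp.RepWith @IsOpenImmersion w.hom ∧ P (w ≫ f).hom ∧
          ∀ (W₁ : AlgSp.Space S) (w₁ : W₁ ⟶ X), AlgSp.RepWith @IsOpenImmersion w₁.hom → P (w₁ ≫ f).hom →
            ∃ k : W₁ ⟶ W, k ≫ w = w₁))
  (h₄ : ∀ (X Y X' Y' : AlgSp.Space S) (f : X ⟶ Y) (g : Y' ⟶ Y) (f' : X' ⟶ Y') (g' : X' ⟶ X),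
      IsPullback g'.hom f'.hom f.hom g.hom → Q f.hom → R g.hom →
      ∀ (W : AlgSp.Space S) (w : W ⟶ X), (AlgSp.RepWith @IsOpenImmersion w.hom ∧ P (w ≫ f).hom ∧
          ∀ (W₁ : AlgSp.Space S) (w₁ : W₁ ⟶ X), AlgSp.RepWith @IsOpenImmersion w₁.hom → P (w₁ ≫ f).hom →
            ∃ k : W₁ ⟶ W, k ≫ w = w₁) →
        ∀ (W' : AlgSp.Space S) (w' : W' ⟶ X') (k : W' ⟶ W), IsPullback k.hom w'.hom w.hom g'.hom →
          (AlgSp.RepWith @IsOpenImmersion w'.hom ∧ P (w' ≫ f').hom ∧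
          ∀ (W₁ : AlgSp.Space S) (w₁ : W₁ ⟶ X'), AlgSp.RepWith @IsOpenImmersion w₁.hom → P (w₁ ≫ f').hom →
            ∃ k : W₁ ⟶ W', k ≫ w' = w₁))
  (hf : AlgSt.RepByAlgSpWith Q f)

variable {V : AlgSp.Space S} (y : AlgSt.ofSp V.obj ⥤ᵇ 𝒴) {F : AlgSp.Space S}
  (e : AlgSt.ofSp F.obj ⥤ᵇ FibCat.fp y f)

/-- The structure map of the base change. -/
abbrev baseMap : F ⟶ V :=
  ObjectProperty.homMk (mapOf (BasedFunctor.comp e (FibCat.fpFst y f)))

/-- The projection of the base change to the source. -/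
abbrev toSrc : AlgSt.ofSp F.obj ⥤ᵇ 𝒳 := BasedFunctor.comp e (FibCat.fpSnd y f)

include hX hY hPb hP hQb hQ hRb hR h₃ h₄ hf in
/-- The points with the property of a base change of `f` lie over those of the atlas. -/
theorem mem_of_good (he : FibCat.IsEquivOver e) {T : Set (AlgSt.Points (AlgSt.ofSp F.obj))}
    (hT : Largest P (AlgSt.ofSpMap (baseMap f y e).hom) T)
    (hZ : AlgSt.IsAlgStack Scheme.fppfPrecoverage 𝒵) (z : 𝒵 ⥤ᵇ 𝒴)
    (hz : AlgSt.RepByAlgSpWith R z) {T' : Set (AlgSt.Points (FibCat.fp z f))}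
    (hT' : Good P (FibCat.fpFst z f) T') (p : AlgSt.Points (AlgSt.ofSp F.obj))
    (q : AlgSt.Points (FibCat.fp z f)) (hq : q ∈ T')
    (hpq : AlgSt.Points.map (toSrc f y e) p = AlgSt.Points.map (FibCat.fpSnd z f) q) : p ∈ T := by
  have hV := isAlgStack_ofSp V
  have hF := isAlgStack_ofSp F
  have hfz := isAlgStack_fp hY.isStack hY.diag hZ hX z f
  obtain ⟨Y', a, ha⟩ := repByAlgSp_fp hZ.isStack.1 hY.isStack.1 z y (repWith_repByAlgSp1 hz)
    ⟨V, _, isEquivOver_id _⟩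
  let z₁ : AlgSt.ofSp Y'.obj ⥤ᵇ AlgSt.ofSp V.obj := BasedFunctor.comp a (FibCat.fpFst y z)
  let z₂ : AlgSt.ofSp Y'.obj ⥤ᵇ 𝒵 := BasedFunctor.comp a (FibCat.fpSnd y z)
  have hV' := isAlgStack_ofSp Y'
  let g : Y' ⟶ V := ObjectProperty.homMk (mapOf z₁)
  have hg : R g.hom := prop_mapOf_of_repWith hRb (descendsAlongAtlas_of_isLocalOnBase hR)
    Y'.property V.property ((repWith_precomp_equiv ha _).2 (repWith_fpFst z y hz))
  have hfV : Q (baseMap f y e).hom := prop_mapOf_of_repWith hQb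
    (descendsAlongAtlas_of_isLocalOnBase hQ) F.property V.property
    ((repWith_precomp_equiv he _).2 (repWith_fpFst f y hf))
  have hL := largest_baseChange_spaces hPb hP h₃ h₄ (baseMap f y e) hfV g hg hT
  -- the common base change
  obtain ⟨β⟩ := nonempty_iso_mapOf z₁
  obtain ⟨γ⟩ := nonempty_iso_mapOf (BasedFunctor.comp e (FibCat.fpFst y f))
  let A : FibCat.fp (AlgSt.ofSpMap g.hom) (AlgSt.ofSpMap (baseMap f y e).hom) ⥤ᵇ
      FibCat.fp z₁ (FibCat.fpFst y f) :=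
    BasedFunctor.comp (fpCongr β.symm γ.symm)
      (fpPre (BasedFunctor.id _) e z₁ (FibCat.fpFst y f))
  have hA : FibCat.IsEquivOver A :=
    isEquivOver_comp (isEquivOver_fpCongr _ _) (isEquivOver_fpPre (isEquivOver_id _) he _ _)
  let ζ : BasedFunctor.comp z₁ y ≅ BasedFunctor.comp z₂ z := whiskerLeftIso a (FibCat.fpIso y z)
  let Φ : FibCat.fp z₁ (FibCat.fpFst y f) ⥤ᵇ FibCat.fp z₂ (FibCat.fpFst z f) :=
    BasedFunctor.comp (fpPaste z₁ y f)
      (BasedFunctor.comp (fpCongr ζ (Iso.refl f)) (fpUnpaste z₂ z f))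
  have hΦ : FibCat.IsEquivOver Φ := isEquivOver_comp (isEquivOver_fpPaste _ _ _)
    (isEquivOver_comp (isEquivOver_fpCongr _ _) (isEquivOver_fpUnpaste _ _ _))
  have hE₂ := isAlgStack_fp hZ.isStack hZ.diag hV' hfz z₂ (FibCat.fpFst z f)
  have hE₀ := isAlgStack_fp hV.isStack hV.diag hV' hF (AlgSt.ofSpMap g.hom)
    (AlgSt.ofSpMap (baseMap f y e).hom)
  have hG := Good.equiv hE₂ hE₀ (BasedFunctor.comp A Φ) (isEquivOver_comp hA hΦ)
    (π' := FibCat.fpFst (AlgSt.ofSpMap g.hom) (AlgSt.ofSpMap (baseMap f y e).hom)) (Iso.refl _)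
    (Good.baseChange hfz z₂ (FibCat.fpFst z f) T' hZ hV' hT')
  have key := hL.2 _ hG
  -- a common point
  obtain ⟨d, hd₁, hd₂⟩ := exists_points_fp hfz.isStack.1 hX.isStack.1 hF.isStack.1
    (FibCat.fpSnd z f) (toSrc f y e) p q hpq
  obtain ⟨a', ha', -, ⟨ψ⟩⟩ := isEquivOver_symm ha
  let D := FibCat.fp (toSrc f y e) (FibCat.fpSnd z f)
  let d₁ : D ⥤ᵇ AlgSt.ofSp F.obj := FibCat.fpFst _ _
  let d₂ : D ⥤ᵇ FibCat.fp z f := FibCat.fpSnd _ _
  let η : BasedFunctor.comp (BasedFunctor.comp (BasedFunctor.comp d₁ e) (FibCat.fpFst y f)) y ≅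
      BasedFunctor.comp (BasedFunctor.comp d₂ (FibCat.fpFst z f)) z :=
    (whiskerLeftIso (BasedFunctor.comp d₁ e) (FibCat.fpIso y f)).trans
      ((whiskerRightIso (FibCat.fpIso (toSrc f y e) (FibCat.fpSnd z f)) f).trans
        (whiskerLeftIso d₂ (FibCat.fpIso z f).symm))
  let κ : D ⥤ᵇ FibCat.fp y z :=
    FibCat.fpLift (BasedFunctor.comp (BasedFunctor.comp d₁ e) (FibCat.fpFst y f))
      (BasedFunctor.comp d₂ (FibCat.fpFst z f)) η
  let ρ : BasedFunctor.comp (BasedFunctor.comp κ a') a ≅ κ := whiskerLeftIso κ ψ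
  let Λ : D ⥤ᵇ FibCat.fp z₁ (FibCat.fpFst y f) :=
    FibCat.fpLift (BasedFunctor.comp κ a') (BasedFunctor.comp d₁ e)
      (whiskerRightIso ρ (FibCat.fpFst y z))
  obtain ⟨c, hc⟩ := (bijective_map_of_isEquivOver hA).2 (AlgSt.Points.map Λ d)
  have hsnd : AlgSt.Points.map
      (FibCat.fpSnd (AlgSt.ofSpMap g.hom) (AlgSt.ofSpMap (baseMap f y e).hom)) c = p := by
    apply (bijective_map_of_isEquivOver he).1
    rw [← map_comp]
    show AlgSt.Points.map (BasedFunctor.comp A (FibCat.fpSnd z₁ (FibCat.fpFst y f))) c = _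
    rw [map_comp, hc, ← map_comp, ← hd₁, ← map_comp]
    rfl
  rw [← hsnd]
  refine key ?_
  show AlgSt.Points.map (FibCat.fpSnd z₂ (FibCat.fpFst z f))
    (AlgSt.Points.map (BasedFunctor.comp A Φ) c) ∈ T'
  rw [map_comp A Φ, hc, ← map_comp, ← map_comp]
  have τ : BasedFunctor.comp Λ (BasedFunctor.comp Φ (FibCat.fpSnd z₂ (FibCat.fpFst z f))) ≅ d₂ :=
    fpIsoMk (whiskerRightIso ρ (FibCat.fpSnd y z) :)
      (FibCat.fpIso (toSrc f y e) (FibCat.fpSnd z f) :) fun x => by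
        have h := (isoApp_naturality (FibCat.fpIso y z) (isoApp ρ x).hom)
        simp [Λ, Φ, κ, η, ζ, ρ, d₁, d₂, z₁, z₂, toSrc, fpPaste, fpUnpaste, fpCongr] at h ⊢
        rw [Iso.eq_inv_comp, ← reassoc_of% h]
        simp
  rw [map_eq_of_iso τ, hd₂]
  exact hq

variable (hys : AlgSt.RepByAlgSpWith AlgSp.IsSurjectiveMor y)

include hX hY hys in
theorem surjective_map_toSrc (he : FibCat.IsEquivOver e) :
    Function.Surjective (AlgSt.Points.map (toSrc f y e)) := fun x => by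
  have hsy : AlgSt.IsSurjective y := (isSurjective_iff_repWith (isFibGrpd_ofSp _) hY.isStack.1
    (repWith_repByAlgSp1 hys)).2 hys
  obtain ⟨v, hv⟩ := hsy (AlgSt.Points.map f x)
  obtain ⟨w, -, hw⟩ := exists_points_fp hX.isStack.1 hY.isStack.1 (isFibGrpd_ofSp _) f y v x hv
  obtain ⟨p, rfl⟩ := (bijective_map_of_isEquivOver he).2 w
  exact ⟨p, (map_comp _ _ _).trans hw⟩

include hX hY hPb hP hQb hQ hRb hR h₃ h₄ hf in
/-- The largest open set of points on which `f` has `P`, and its stability under base change. -/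
theorem exists_largest (h₂ : ∀ (X Y : AlgSp.Space S) (g : X ⟶ Y), AlgSp.LocP @Smooth g.hom → R g.hom) :
    ∃ T, Largest P f T ∧ ∀ (𝒵 : AlgSt.Cat S), AlgSt.IsAlgStack Scheme.fppfPrecoverage 𝒵 →
      ∀ (z : 𝒵 ⥤ᵇ 𝒴), AlgSt.RepByAlgSpWith R z →
        Largest P (FibCat.fpFst z f) (AlgSt.Points.map (FibCat.fpSnd z f) ⁻¹' T) := by
  obtain ⟨U, y, hy, hys⟩ := exists_space_atlas hY
  let V : AlgSp.Space S := (AlgSp.ofScheme S).obj U
  have hV : AlgSt.IsAlgStack Scheme.fppfPrecoverage (AlgSt.ofSp V.obj : AlgSt.Cat S) := isAlgStack_ofSp V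
  obtain ⟨F, e, he⟩ := repByAlgSp_fp hX.isStack.1 hY.isStack.1 f y (repWith_repByAlgSp1 hf)
    ⟨V, _, isEquivOver_id _⟩
  have hF := isAlgStack_ofSp F
  have hyR : AlgSt.RepByAlgSpWith R y :=
    repWith_mono (fun A B g hA hB h => h₂ ⟨A, hA⟩ ⟨B, hB⟩ (ObjectProperty.homMk g) h) hy
  have hfV : Q (baseMap f y e).hom := prop_mapOf_of_repWith hQb
    (descendsAlongAtlas_of_isLocalOnBase hQ) F.property V.property
    ((repWith_precomp_equiv he _).2 (repWith_fpFst f y hf))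
  obtain ⟨TW, hTW⟩ := exists_largest_of_spaces hPb hP h₃ (baseMap f y e) hfV
  obtain ⟨γ⟩ := nonempty_iso_mapOf (BasedFunctor.comp e (FibCat.fpFst y f))
  have hfy := isAlgStack_fp hY.isStack hY.diag hV hX y f
  obtain ⟨e', he', ⟨u₁⟩, ⟨u₂⟩⟩ := isEquivOver_symm he
  -- the image is saturated
  have hTW' : Good P (FibCat.fpFst y f) (AlgSt.Points.map e' ⁻¹' TW) :=
    Good.equiv hF hfy e' he'
      ((whiskerLeftIso e' γ.symm).trans (whiskerRightIso u₂ (FibCat.fpFst y f)) :) hTW.1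
  have hee : ∀ p, AlgSt.Points.map e' (AlgSt.Points.map e p) = p := fun p => by
    rw [← map_comp, map_eq_of_iso u₁, map_id]
  let T₀ := AlgSt.Points.map (toSrc f y e) '' TW
  have hsat : AlgSt.Points.map (toSrc f y e) ⁻¹' T₀ = TW := by
    refine (Set.subset_preimage_image _ _).antisymm' ?_
    rintro p ⟨p', hp', hpp⟩
    exact mem_of_good hX hY f hPb hQb hRb hP hQ hR h₃ h₄ hf y e he hTW hV y hyR hTW' p
      (AlgSt.Points.map e p') (show AlgSt.Points.map e' (AlgSt.Points.map e p') ∈ TW by rwa [hee])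
      (hpp.symm.trans (map_comp _ _ _))
  have hopen : IsOpen T₀ := by
    refine isOpenMap_map_of_repWith hF hX.isStack.1 ?_ ?_ _ hTW.1.1
    · exact (repWith_precomp_equiv he _).2 (repWith_fpSnd y f
        (repWith_locP_of_smooth (P := @Flat) (fun _ _ g (_ : Smooth g) => inferInstance) hy))
    · exact (repWith_precomp_equiv he _).2 (repWith_fpSnd y f
        (repWith_locP_of_smooth (P := @LocallyOfFinitePresentation)
          (fun _ _ g (_ : Smooth g) => inferInstance) hy))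
  have hgood : Good P f T₀ := by
    refine ⟨hopen, ?_⟩
    have hA := (isOpenSubstack_inPts hX hopen).2.1
    have hfr : AlgSt.RepByAlgSp1 (BasedFunctor.comp (AlgSt.subIncl 𝒳 (inPts T₀)) f) :=
      repWith_repByAlgSp1 (P := ⊤) (repWith_comp' hA.isStack.1 hX.isStack.1
        (fun _ _ _ _ _ _ _ _ _ _ _ _ _ _ => trivial) (fun _ _ _ _ _ _ _ _ _ _ => trivial)
        (fun _ _ _ _ _ _ _ _ _ _ _ _ _ _ _ => trivial)
        ((repWith_top_iff _).2 (repWith_repByAlgSp1 (isOpenImm_subIncl_inPts hX hopen)))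
        ((repWith_top_iff _).2 (repWith_repByAlgSp1 hf)))
    obtain ⟨W, b, hb⟩ := repByAlgSp_fp hA.isStack.1 hY.isStack.1 _ y hfr ⟨V, _, isEquivOver_id _⟩
    have hG : Good P (FibCat.fpFst y f) (AlgSt.Points.map (FibCat.fpSnd y f) ⁻¹' T₀) := by
      have : AlgSt.Points.map (FibCat.fpSnd y f) ⁻¹' T₀ = AlgSt.Points.map e' ⁻¹' TW := by
        ext w
        obtain ⟨p, rfl⟩ := (bijective_map_of_isEquivOver he).2 w
        rw [Set.mem_preimage, Set.mem_preimage, hee, ← map_comp]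
        exact Set.ext_iff.1 hsat p
      rw [this]; exact hTW'
    obtain ⟨E, hE, -, ⟨u⟩⟩ := isEquivOver_symm (isEquivOver_preFp hX y f T₀ hfy)
    have hfst : AlgSt.RepByAlgSpWith P
        (FibCat.fpFst y (BasedFunctor.comp (AlgSt.subIncl 𝒳 (inPts T₀)) f)) :=
      repWith_of_iso (whiskerRightIso u
          (FibCat.fpFst y (BasedFunctor.comp (AlgSt.subIncl 𝒳 (inPts T₀)) f)) :)
        ((repWith_precomp_equiv hE _).2 hG.2)
    refine (repWith_iff_exists_map_of_cover hA.isStack.1 hY.isStack.1 hPb hP hfr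
      (W := V) (w := y)
      (repWith_locP_of_smooth (P := @Flat) (fun _ _ g (_ : Smooth g) => inferInstance) hy)
      (repWith_locP_of_smooth (P := @LocallyOfFinitePresentation)
        (fun _ _ g (_ : Smooth g) => inferInstance) hy) hys).2
      ⟨W, ObjectProperty.homMk (mapOf (BasedFunctor.comp b
        (FibCat.fpFst y (BasedFunctor.comp (AlgSt.subIncl 𝒳 (inPts T₀)) f)))), b, hb,
        nonempty_iso_mapOf _,
        prop_mapOf_of_repWith hPb (descendsAlongAtlas_of_isLocalOnBase hP) W.property V.property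
          ((repWith_precomp_equiv hb _).2 hfst)⟩
  have hsurj := surjective_map_toSrc hX hY f y e hys he
  refine ⟨T₀, ⟨hgood, fun T₁ hT₁ x hx => ?_⟩, fun 𝒵 hZ z hz =>
    ⟨Good.baseChange hX z f T₀ hY hZ hgood, fun T' hT' q hq => ?_⟩⟩
  · obtain ⟨p, rfl⟩ := hsurj x
    exact ⟨p, hTW.2 _ (Good.equiv hfy hF e he γ (Good.baseChange hX y f T₁ hY hV hT₁))
      (show AlgSt.Points.map (FibCat.fpSnd y f) (AlgSt.Points.map e p) ∈ T₁ by
        rw [← map_comp]; exact hx), rfl⟩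
  · obtain ⟨p, hp⟩ := hsurj (AlgSt.Points.map (FibCat.fpSnd z f) q)
    show AlgSt.Points.map (FibCat.fpSnd z f) q ∈ T₀
    rw [← hp]
    exact ⟨p, mem_of_good hX hY f hPb hQb hRb hP hQ hR h₃ h₄ hf y e he hTW hZ z hz hT' p q hq hp, rfl⟩

end Main

section Substacks

/-- An open substack on which `π` has `P` is given by an open set of points with that property. -/
theorem exists_good_of_isOpenSubstack (hX : AlgSt.IsAlgStack Scheme.fppfPrecoverage 𝒳) (π : 𝒳 ⥤ᵇ 𝒴)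
    {Q₁ : 𝒳.obj → Prop} (hQ₁ : AlgSt.IsOpenSubstack 𝒳 Q₁ Scheme.fppfPrecoverage)
    (h : AlgSt.RepByAlgSpWith P (BasedFunctor.comp (AlgSt.subIncl 𝒳 Q₁) π)) :
    ∃ T, Q₁ = inPts T ∧ Good P π T := by
  have hO : IsOpen (Set.range (AlgSt.Points.map (AlgSt.subIncl 𝒳 Q₁))) :=
    (isOpenMap_map_of_isOpenImm hQ₁.2.1 hX.isStack.1 hQ₁.2.2).isOpen_range
  have e : Q₁ = inPts (Set.range (AlgSt.Points.map (AlgSt.subIncl 𝒳 Q₁))) :=
    funext fun y => propext (isOpenSubstack_eq hX hQ₁ y)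
  generalize Set.range (AlgSt.Points.map (AlgSt.subIncl 𝒳 Q₁)) = T at hO e
  subst e
  exact ⟨T, rfl, hO, h⟩

theorem inPts_mono {T T' : Set (AlgSt.Points 𝒳)} (h : T ⊆ T') {y : 𝒳.obj} (hy : inPts T y) :
    inPts T' y := fun p hp => h (hy p hp)

/-- The substack of a largest open set of points is the largest open substack. -/
theorem Largest.substack (hX : AlgSt.IsAlgStack Scheme.fppfPrecoverage 𝒳) {π : 𝒳 ⥤ᵇ 𝒴}
    {T : Set (AlgSt.Points 𝒳)} (h : Largest P π T) :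
    AlgSt.IsOpenSubstack 𝒳 (inPts T) Scheme.fppfPrecoverage ∧
      AlgSt.RepByAlgSpWith P (BasedFunctor.comp (AlgSt.subIncl 𝒳 (inPts T)) π) ∧
        ∀ Q₁ : 𝒳.obj → Prop, AlgSt.IsOpenSubstack 𝒳 Q₁ Scheme.fppfPrecoverage →
          AlgSt.RepByAlgSpWith P (BasedFunctor.comp (AlgSt.subIncl 𝒳 Q₁) π) →
            ∀ y, Q₁ y → inPts T y := by
  refine ⟨isOpenSubstack_inPts hX h.1.1, h.1.2, fun Q₁ hQ₁ hP₁ y hy => ?_⟩
  obtain ⟨T', rfl, hT'⟩ := exists_good_of_isOpenSubstack hX π hQ₁ hP₁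
  exact inPts_mono (h.2 T' hT') hy

end Substacks

end Groth.AlgStCover
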