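import Groth.Agent.QuotStk.InvariantFactor
import Groth.Agent.AlgStBasic.LocQBase
import Groth.Agent.StkGerb.QuotFin.RationalPoint
import Groth.Prelude.Def_StCoarse
import Groth.Prelude.Def_W4bk4git07Quot

/-!
# Moduli spaces of quotient stacks
-/

set_option autoImplicit false
set_option backward.isDefEq.respectTransparency false
set_option backward.isDefEq.respectTransparency.types false

universe u

open CategoryTheory CategoryTheory.Limits AlgebraicGeometry Opposite AlgSp MonoidalCategory CartesianMonoidalCategory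
open Groth.QuotStk Groth.StkBase Groth.AlgStBasic Groth.StkGerb.QuotFin

noncomputable section

namespace Groth.AlgStCover

variable {S : Scheme.{u}} {M N : AlgSp.Sp S}

theorem eltObj_eq_of_hom {a b : (AlgSt.ofSp M).obj} (m : a ⟶ b) (e : a.base = b.base)
    (h : m.hom = eqToHom e) : a = b := by
  obtain ⟨T, s⟩ := a
  obtain ⟨T', s'⟩ := b
  change T = T' at e
  subst e
  have hs := m.map_sec
  rw [h, eqToHom_refl, op_id, CategoryTheory.Functor.map_id] at hs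
  exact congrArg (Stk.EltObj.mk T) hs.symm

theorem eq_of_iso_ofSp {𝒳 : AlgSt.Cat S} {F F' : 𝒳 ⥤ᵇ AlgSt.ofSp M} (i : F ≅ F') : F = F' :=
  basedFunctor_ext_ofSp fun x =>
    eltObj_eq_of_hom (i.hom.toNatTrans.app x) ((F.w_obj x).trans (F'.w_obj x).symm) (by
      have := i.hom.isHomLift' x
      have h := IsHomLift.fac' (AlgSt.ofSp M).p (𝟙 (𝒳.p.obj x)) (i.hom.toNatTrans.app x)
      exact h.trans (by simp))

theorem sec_congr {a b : (AlgSt.ofSp M).obj} {T : Over S} (h : a = b) (ea : a.base = T) (eb : b.base = T) :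
    M.obj.map (eqToHom ea.symm).op a.sec = M.obj.map (eqToHom eb.symm).op b.sec := by
  subst h
  rfl

theorem ofSpMap_injective {a b : M ⟶ N} (h : AlgSt.ofSpMap a = AlgSt.ofSpMap b) : a = b := by
  rw [← mapOf_ofSpMap a, h, mapOf_ofSpMap]

section Quot

variable {G X : Over S} [GrpObj G] {aX : AlgGrp.Action G X}

theorem fibSec_eq_of_iso (π : AlgSt.QuotSt Scheme.fppfPrecoverage G aX ⥤ᵇ AlgSt.ofSp M) {T : Over S} {x y : (AlgSt.QuotSt Scheme.fppfPrecoverage G aX).p.Fiber T} (i : x ≅ y) :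
    AlgSt.fibSec π x = AlgSt.fibSec π y := by
  have := i.hom.2
  have hb : (AlgSt.QuotSt Scheme.fppfPrecoverage G aX).p.map i.hom.1 = eqToHom (x.2.trans y.2.symm) :=
    (IsHomLift.fac' (AlgSt.QuotSt Scheme.fppfPrecoverage G aX).p (𝟙 T) i.hom.1).trans (by simp)
  have hh : (π.map i.hom.1).hom = eqToHom (((π.w_obj x.1).trans (x.2.trans y.2.symm)).trans (π.w_obj y.1).symm) :=
    (Groth.StkBase.map_map π i.hom.1).trans (by rw [hb]; simp)
  have e : π.obj x.1 = π.obj y.1 := eltObj_eq_of_hom (π.map i.hom.1) _ hh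
  exact sec_congr e ((π.w_obj x.1).trans x.2) ((π.w_obj y.1).trans y.2)

theorem sec_eq_of_obj_eq {a : (AlgSt.ofSp M).obj} {T : Over S} {s : M.obj.obj (op T)}
    (h : a = ⟨T, s⟩) (e : a.base = T) : M.obj.map (eqToHom e.symm).op a.sec = s := by
  subst h
  simp

theorem fibSec_trivObj (π : AlgSt.QuotSt Scheme.fppfPrecoverage G aX ⥤ᵇ AlgSt.ofSp M) {f : (yon S).obj X ⟶ M}
    (h : BasedFunctor.comp (AlgSt.quotMap Scheme.fppfPrecoverage G aX) π = AlgSt.ofSpMap f) {T : Over S} (x : T ⟶ X) :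
    AlgSt.fibSec π (trivObj Scheme.fppfPrecoverage aX x) = fsec f x :=
  sec_eq_of_obj_eq (congrArg (fun F => F.obj (⟨T, ⟨x⟩⟩ : (AlgSt.ofSch X).obj)) h)
    ((π.w_obj _).trans (trivObj Scheme.fppfPrecoverage aX x).2)

theorem isInv_of_comp (φ : AlgSt.QuotSt Scheme.fppfPrecoverage G aX ⥤ᵇ AlgSt.ofSp N) {ψ : (yon S).obj X ⟶ N}
    (h : BasedFunctor.comp (AlgSt.quotMap Scheme.fppfPrecoverage G aX) φ = AlgSt.ofSpMap ψ) : IsInv aX ψ := by
  refine Sheaf.hom_ext (NatTrans.ext (funext fun T => ?_))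
  ext ⟨c⟩
  show fsec ψ (c ≫ aX.act) = fsec ψ (c ≫ snd G X)
  rw [← fibSec_trivObj φ h, ← fibSec_trivObj φ h]
  exact fibSec_eq_of_iso φ (trivIso _ _ (c ≫ fst G X) (by rw [← comp_lift, lift_fst_snd, Category.comp_id]))

variable {Y : Over S} {f : X ⟶ Y} (π : AlgSt.QuotSt Scheme.fppfPrecoverage G aX ⥤ᵇ AlgSt.ofSch Y)
  (hπ : BasedFunctor.comp (AlgSt.quotMap Scheme.fppfPrecoverage G aX) π = AlgSt.ofSpMap ((yon S).map f))

include hπ in
theorem isInvariant_of_comp : GIT.IsInvariant aX f :=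
  (yon S).map_injective (by rw [Functor.map_comp, Functor.map_comp]; exact isInv_of_comp π hπ)

include hπ in
theorem comp_ofSpMap (g : (yon S).obj Y ⟶ N) :
    BasedFunctor.comp (AlgSt.quotMap Scheme.fppfPrecoverage G aX) (BasedFunctor.comp π (AlgSt.ofSpMap g)) = AlgSt.ofSpMap ((yon S).map f ≫ g) :=
  (congrArg (fun F => BasedFunctor.comp F (AlgSt.ofSpMap g)) hπ).trans
    (ofPshMap_comp ((yon S).map f).hom g.hom).symm

include hπ in
/-- Categorical moduli spaces of a quotient stack are categorical quotients. -/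
theorem isCatModuliIn_iff (C : ObjectProperty (AlgSp.Sp S)) :
    AlgSt.IsCatModuliIn C π ↔ C ((yon S).obj Y) ∧ ∀ (N : AlgSp.Sp S), C N →
      ∀ ψ : (yon S).obj X ⟶ N, IsInv aX ψ → ∃! χ : (yon S).obj Y ⟶ N, (yon S).map f ≫ χ = ψ := by
  refine ⟨fun ⟨hC, h⟩ => ⟨hC, fun N hN ψ hψ => ?_⟩, fun ⟨hC, h⟩ => ⟨hC, fun N hN φ => ?_⟩⟩
  · obtain ⟨φ, hφ, huniq⟩ := existsUnique_descFunctor hψ
    obtain ⟨g, ⟨i⟩, hg⟩ := h N hN φ
    refine ⟨g, ?_, fun g' hg' => ?_⟩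
    · apply ofSpMap_injective
      rw [← comp_ofSpMap π hπ g, eq_of_iso_ofSp i]
      exact hφ
    · refine hg g' ⟨eqToIso (huniq _ ?_)⟩
      show BasedFunctor.comp (AlgSt.quotMap Scheme.fppfPrecoverage G aX) (BasedFunctor.comp π (AlgSt.ofSpMap g')) = AlgSt.ofSpMap ψ
      rw [comp_ofSpMap π hπ g', hg']
  · obtain ⟨i⟩ := nonempty_iso_mapOf (BasedFunctor.comp (AlgSt.quotMap Scheme.fppfPrecoverage G aX) φ)
    have hφ := eq_of_iso_ofSp i
    have hψ := isInv_of_comp φ hφ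
    obtain ⟨χ, hχ, huniq⟩ := h N hN _ hψ
    refine ⟨χ, ⟨eqToIso ((existsUnique_descFunctor hψ).unique ?_ hφ)⟩, fun g ⟨j⟩ => huniq g ?_⟩
    · show BasedFunctor.comp (AlgSt.quotMap Scheme.fppfPrecoverage G aX) (BasedFunctor.comp π (AlgSt.ofSpMap χ)) = _
      rw [comp_ofSpMap π hπ χ, hχ]
    · apply ofSpMap_injective
      rw [← comp_ofSpMap π hπ g, eq_of_iso_ofSp j]
      exact hφ

include hπ in
theorem isCatModuliSch_iff : AlgSt.IsCatModuliSch π ↔ GIT.IsCatQuot aX f := by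
  rw [AlgSt.IsCatModuliSch, isCatModuliIn_iff π hπ]
  have hinv : ∀ {Z : Over S} (ψ : X ⟶ Z), GIT.IsInvariant aX ψ → IsInv aX ((yon S).map ψ) :=
    fun ψ h => by
      show _ ≫ _ = _ ≫ _
      rw [← Functor.map_comp, ← Functor.map_comp]
      exact congrArg _ h
  refine ⟨fun ⟨_, h⟩ => ⟨isInvariant_of_comp π hπ, fun Z ψ hψ => ?_⟩,
    fun h => ⟨⟨Y, ⟨representableByOfIso (Iso.refl _)⟩⟩, fun N hN ψ hψ => ?_⟩⟩
  · obtain ⟨χ, hχ, hu⟩ := h ((yon S).obj Z) ⟨Z, ⟨representableByOfIso (Iso.refl _)⟩⟩ _ (hinv ψ hψ)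
    obtain ⟨χ₀, rfl⟩ := (yon S).map_surjective χ
    refine ⟨χ₀, (yon S).map_injective (by rw [Functor.map_comp]; exact hχ), fun c hc =>
      (yon S).map_injective (hu _ (((yon S).map_comp f c).symm.trans (congrArg _ hc)))⟩
  · obtain ⟨Z, ⟨e⟩⟩ := hN
    let E := isoOfRepresentableBy e
    obtain ⟨ψ₀, hψ₀⟩ := (yon S).map_surjective (ψ ≫ E.inv)
    have hψ' : GIT.IsInvariant aX ψ₀ := (yon S).map_injective (by
      rw [Functor.map_comp, Functor.map_comp, hψ₀, ← Category.assoc, ← Category.assoc, hψ])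
    obtain ⟨χ, hχ, hu⟩ := h.2 Z ψ₀ hψ'
    refine ⟨(yon S).map χ ≫ E.hom, ?_, fun c hc => ?_⟩
    · show (yon S).map f ≫ (yon S).map χ ≫ E.hom = ψ
      rw [← Category.assoc, ← Functor.map_comp, hχ, hψ₀, Category.assoc, E.inv_hom_id, Category.comp_id]
    · obtain ⟨c₀, hc₀⟩ := (yon S).map_surjective (c ≫ E.inv)
      have := hu c₀ ((yon S).map_injective (by
        rw [Functor.map_comp, hc₀, ← Category.assoc, show (yon S).map f ≫ c = ψ from hc, hψ₀]))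
      rw [← this, hc₀, Category.assoc, E.inv_hom_id, Category.comp_id]

theorem exists_section_algClosed [Flat G.hom] {Ω : Type u} [Field Ω] [IsAlgClosed Ω]
    {t : Spec (CommRingCat.of Ω) ⟶ S} (ξ : (AlgSt.QuotSt Scheme.fppfPrecoverage G aX).p.Fiber (Over.mk t)) :
    ∃ s : Over.mk t ⟶ ξ.1.P, s ≫ ξ.1.π = eqToHom (ξ.2 : ξ.1.base = _).symm := by
  obtain ⟨A, hA⟩ := ξ
  change A.base = _ at hA
  obtain ⟨R, hR, hR'⟩ := A.loc
  let b : A.base.left ⟶ Spec (CommRingCat.of Ω) := (eqToHom hA).left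
  obtain ⟨S', f, hf, z, -⟩ : ∃ (S' : Scheme.{u}) (f : S' ⟶ A.base.left), R f ∧
      ∃ z : S', f z = (eqToHom hA.symm).left (IsLocalRing.closedPoint Ω) := by
    obtain ⟨I₀, Z, g, rfl⟩ := R.exists_eq_ofArrows
    obtain ⟨i, z, hz⟩ := ((Scheme.ofArrows_mem_precoverage_iff _).1 hR).1
      ((eqToHom hA.symm).left (IsLocalRing.closedPoint Ω))
    exact ⟨Z i, g i, ⟨i⟩, z, hz⟩
  obtain ⟨σ, hσ⟩ := hR' f hf
  have hfl : LocallyOfFinitePresentation f := (hR.2 hf).2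
  let W : Over (Spec (CommRingCat.of Ω)) := Over.mk (f ≫ b)
  have : Nonempty W.left := ⟨z⟩
  have : LocallyOfFiniteType W.hom := inferInstanceAs (LocallyOfFiniteType (f ≫ b))
  obtain ⟨p⟩ := exists_algClosed_point W Ω
  have hp : p.left ≫ f ≫ b = 𝟙 _ := (Over.w p).trans (by
    show Spec.map (CommRingCat.ofHom (algebraMap Ω Ω)) = _
    exact Spec.map_id _)
  have hpf : p.left ≫ f = (eqToHom hA.symm).left := by
    have hb : b ≫ (eqToHom hA.symm).left = 𝟙 _ := by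
      show (eqToHom hA).left ≫ _ = _
      rw [← Over.comp_left, eqToHom_trans, eqToHom_refl, Over.id_left]
    calc p.left ≫ f = (p.left ≫ f ≫ b) ≫ (eqToHom hA.symm).left := by
          rw [Category.assoc, Category.assoc, hb, Category.comp_id]
      _ = _ := by rw [hp, Category.id_comp]
  have hσ' : (p.left ≫ σ) ≫ A.π.left = (eqToHom hA.symm).left :=
    (Category.assoc _ _ _).trans ((congrArg (p.left ≫ ·) hσ).trans hpf)
  refine ⟨Over.homMk (p.left ≫ σ) ?_, Over.OverMorphism.ext hσ'⟩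
  show (p.left ≫ σ) ≫ A.P.hom = t
  rw [← Over.w A.π, ← Category.assoc, hσ']
  exact Over.w (eqToHom hA.symm)

include hπ in
theorem isCoarseModuli_of_orbits [Flat G.hom]
    (horb : ∀ (Ω : Type u) [Field Ω] [IsAlgClosed Ω] (t : Spec (CommRingCat.of Ω) ⟶ S),
      (∀ y : Over.mk t ⟶ Y, ∃ x : Over.mk t ⟶ X, x ≫ f = y) ∧
      (∀ x x' : Over.mk t ⟶ X, x ≫ f = x' ≫ f → ∃ g : Over.mk t ⟶ G, lift g x' ≫ aX.act = x))
    (hcat : ∀ (N : AlgSp.Space S) (ψ : (AlgSp.yon S).obj X ⟶ N.obj),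
      (AlgSp.yon S).map aX.act ≫ ψ = (AlgSp.yon S).map (snd G X) ≫ ψ →
        ∃! χ : (AlgSp.yon S).obj Y ⟶ N.obj, (AlgSp.yon S).map f ≫ χ = ψ) :
    AlgSt.IsCoarseModuli π := by
  refine ⟨(isCatModuliIn_iff π hπ _).2 ⟨IsAlgSpace.yon_obj Y, fun N hN => hcat ⟨N, hN⟩⟩,
    fun Ω _ _ t => ⟨fun m => ?_, fun ξ η h => ?_⟩⟩
  · obtain ⟨y⟩ := m
    obtain ⟨x, hx⟩ := (horb Ω t).1 y
    exact ⟨trivObj _ aX x, (fibSec_trivObj π hπ x).trans (congrArg ULift.up hx)⟩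
  · obtain ⟨s, hs⟩ := exists_section_algClosed ξ
    obtain ⟨i⟩ := nonempty_iso_trivObj ξ s hs
    obtain ⟨s', hs'⟩ := exists_section_algClosed η
    obtain ⟨i'⟩ := nonempty_iso_trivObj η s' hs'
    rw [← fibSec_eq_of_iso π i, ← fibSec_eq_of_iso π i', fibSec_trivObj π hπ, fibSec_trivObj π hπ] at h
    obtain ⟨g, hg⟩ := (horb Ω t).2 _ _ (congrArg ULift.down h)
    exact ⟨i.symm ≪≫ trivIso _ _ g hg ≪≫ i'⟩

end Quot

end Groth.AlgStCover
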