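import Groth.Agent.Pi1Tors.Points
import Groth.Prelude.Def_ChGrp
import Groth.Prelude.Def_ActBC
import Mathlib.AlgebraicGeometry.Sites.Proetale

/-!
# Reductions of the structure group and sections of the quotient
-/

set_option autoImplicit false
set_option backward.isDefEq.respectTransparency false
set_option backward.isDefEq.respectTransparency.types false

universe u

open CategoryTheory CategoryTheory.Limits AlgebraicGeometry MonoidalCategory CartesianMonoidalCategory MonObj
open Groth.Pi1Tors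

noncomputable section

namespace Groth.AlgStCover

variable {S : Scheme.{u}} {G F Q : Over S} [GrpObj G] {a : AlgGrp.Action G F} {π : F ⟶ Q}
  (hsq : IsPullback a.act (snd G F) π π)

include hsq

theorem exists_dot_of_eq {T : Over S} (x y : T ⟶ F) (h : x ≫ π = y ≫ π) : ∃ g : T ⟶ G, dot a g y = x := by
  refine ⟨hsq.lift x y h ≫ fst G F, ?_⟩
  rw [dot, show lift (hsq.lift x y h ≫ fst G F) y = hsq.lift x y h from
    CartesianMonoidalCategory.hom_ext _ _ (lift_fst _ _) ((lift_snd _ _).trans (hsq.lift_snd x y h).symm)]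
  exact hsq.lift_fst x y h

theorem dot_injective {T : Over S} {g g' : T ⟶ G} {x : T ⟶ F} (h : dot a g x = dot a g' x) : g = g' := by
  have := hsq.hom_ext (k := lift g x) (l := lift g' x) h (by rw [lift_snd, lift_snd])
  simpa using congrArg (· ≫ fst G F) this

theorem dot_π {T : Over S} (g : T ⟶ G) (x : T ⟶ F) : dot a g x ≫ π = x ≫ π := by
  rw [dot, Category.assoc, hsq.w, lift_snd_assoc]

theorem exists_reduction_of_section
    (hloc : NonAbH1.IsLocallyTrivialFor Scheme.etalePrecoverage (Over.mk π.left : Over Q.left))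
    (σ : 𝟙_ (Over S) ⟶ Q) :
    ∃ (E : Over S) (aE : AlgGrp.Action G E) (φ : E ⟶ F),
      NonAbH1.IsTorsorFor Scheme.etalePrecoverage aE ∧
      AlgGrp.Action.IsEquivariant aE a φ ∧
      IsPullback φ (toUnit E) π σ := by
  let E : Over S := pullback π σ
  let φ : E ⟶ F := pullback.fst π σ
  have hE : IsPullback φ (toUnit E) π σ := by
    convert IsPullback.of_hasPullback π σ using 1
    exact toUnit_unique _ _
  have w : ∀ {T : Over S} (g : T ⟶ G) (x : T ⟶ E), dot a g (x ≫ φ) ≫ π = toUnit T ≫ σ := fun g x => by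
    rw [dot_π hsq, Category.assoc, hE.w, ← Category.assoc, toUnit_unique (x ≫ toUnit E) (toUnit _)]
  let act : G ⊗ E ⟶ E := hE.lift (dot a (fst G E) (snd G E ≫ φ)) (toUnit _) (w _ _)
  have hact : ∀ {T : Over S} (g : T ⟶ G) (x : T ⟶ E), (lift g x ≫ act) ≫ φ = dot a g (x ≫ φ) := fun g x => by
    rw [Category.assoc, hE.lift_fst, comp_dot, lift_fst, lift_snd_assoc]
  have ext : ∀ {T : Over S} (x y : T ⟶ E), x ≫ φ = y ≫ φ → x = y := fun x y h =>
    hE.hom_ext h (toUnit_unique _ _)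
  let aE : AlgGrp.Action G E :=
    { act := act
      one_act := ext _ _ (by
        have e : η[G] ▷ E = lift (fst _ E ≫ η[G]) (snd _ E) := by ext1 <;> simp
        rw [e, hact, show fst (𝟙_ (Over S)) E ≫ η[G] = (1 : _ ⟶ G) by
          rw [Hom.one_def, toUnit_unique (fst (𝟙_ (Over S)) E) (toUnit _)], one_dot, leftUnitor_hom])
      mul_act := ext _ _ (by
        have e₁ : μ[G] ▷ E = lift (fst _ E ≫ μ[G]) (snd _ E) := by ext1 <;> simp
        have e₂ : fst (G ⊗ G) E ≫ μ[G] = (fst _ E ≫ fst G G) * (fst _ E ≫ snd G G) := by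
          rw [Hom.mul_def, ← comp_lift, lift_fst_snd, Category.comp_id]
        have e₃ : (α_ G G E).hom ≫ G ◁ act =
            lift (fst _ E ≫ fst G G) (lift (fst _ E ≫ snd G G) (snd _ E) ≫ act) := by
          have : (α_ G G E).hom ≫ snd G (G ⊗ E) = lift (fst _ E ≫ snd G G) (snd _ E) := by ext1 <;> simp
          ext1 <;> simp [← this]
        rw [e₁, hact, e₂, mul_dot, ← Category.assoc, e₃, hact, hact]) }
  refine ⟨E, aE, φ, ⟨?_, ?_⟩, ?_, hE⟩
  · refine isPseudoTorsor_of_points aE (fun T x y => ?_) fun T g g' x h => ?_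
    · obtain ⟨g, hg⟩ := exists_dot_of_eq hsq (x ≫ φ) (y ≫ φ) (by
        rw [Category.assoc, Category.assoc, hE.w, ← Category.assoc, ← Category.assoc,
          toUnit_unique (x ≫ toUnit E) (y ≫ toUnit E)])
      exact ⟨g, ext _ _ ((hact g y).trans hg)⟩
    · exact dot_injective hsq (x := x ≫ φ) ((hact g x).symm.trans ((congrArg (· ≫ φ) h).trans (hact g' x)))
  · obtain ⟨R, hR, hsec⟩ := hloc
    obtain ⟨I, Z, f, rfl⟩ := R.exists_eq_ofArrows
    let p : ∀ i, pullback σ.left (f i) ⟶ S := fun i => pullback.fst σ.left (f i)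
    refine ⟨Presieve.ofArrows _ p, Precoverage.mem_coverings_of_isPullback f hR σ.left p
      (fun i => pullback.snd σ.left (f i)) fun i => IsPullback.of_hasPullback _ _, ?_⟩
    rintro _ _ ⟨i⟩
    obtain ⟨s, hs⟩ := hsec (f i) ⟨i⟩
    change s ≫ π.left = f i at hs
    have hE' : IsPullback φ.left (toUnit E).left π.left σ.left := hE.map (Over.forget S)
    refine ⟨hE'.lift (pullback.snd σ.left (f i) ≫ s) (p i) (by
      rw [Category.assoc, hs]; exact pullback.condition.symm), ?_⟩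
    rw [← Over.w (toUnit E), ← Category.assoc, hE'.lift_snd]
    exact Category.comp_id _
  · show act ≫ φ = (G ◁ φ) ≫ a.act
    rw [show act ≫ φ = (lift (fst G E) (snd G E) ≫ act) ≫ φ by rw [lift_fst_snd, Category.id_comp], hact,
      dot, show G ◁ φ = lift (fst G E) (snd G E ≫ φ) by ext1 <;> simp]

theorem existsUnique_section_of_reduction {E : Over S} (aE : AlgGrp.Action G E)
    (hE : NonAbH1.IsTorsorFor Scheme.etalePrecoverage aE)
    (φ : E ⟶ F) (hφ : AlgGrp.Action.IsEquivariant aE a φ) :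
    (∃! σ : 𝟙_ (Over S) ⟶ Q, toUnit E ≫ σ = φ ≫ π) ∧
      ∀ σ : 𝟙_ (Over S) ⟶ Q, toUnit E ≫ σ = φ ≫ π → IsPullback φ (toUnit E) π σ := by
  have h : LocSurj (toUnit E) := locSurj_toUnit (by
    obtain ⟨R, hR, hsec⟩ := hE.2
    exact ⟨R, (Scheme.etalePrecoverage_le_proetalePrecoverage.trans
      Scheme.proetalePrecoverage_le_fpqcPrecoverage) S hR, hsec⟩)
  have hd : ∀ {T : Over S} (g : T ⟶ G) (y : T ⟶ E), dot aE g y ≫ φ = dot a g (y ≫ φ) := fun g y => by
    rw [dot, Category.assoc, hφ, ← Category.assoc, lift_whiskerLeft, dot]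
  have ext : ∀ {T : Over S} (x y : T ⟶ E), x ≫ φ = y ≫ φ → x = y := fun x y h => by
    obtain ⟨g, rfl⟩ := exists_dot_eq aE hE.1 x y
    rw [hd] at h
    have h1 : g = 1 := dot_injective hsq (x := y ≫ φ) (h.trans (one_dot a _).symm)
    rw [h1, one_dot]
  obtain ⟨σ₀, hσ₀⟩ := h.desc (φ ≫ π) fun T x y _ => by
    obtain ⟨g, rfl⟩ := exists_dot_eq aE hE.1 x y
    rw [← Category.assoc, hd, dot_π hsq, Category.assoc]
  refine ⟨⟨σ₀, hσ₀, fun σ hσ => h.cancel (hσ.trans hσ₀.symm)⟩, fun σ hσ => ⟨⟨hσ.symm⟩, ⟨?_⟩⟩⟩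
  have key : ∀ (T : Over S) (x : T ⟶ F), x ≫ π = toUnit T ≫ σ → ∃ e : T ⟶ E, e ≫ φ = x := by
    intro T x hx
    have hloc : LocSurj (fst T E) := h.fst T
    obtain ⟨g, hg⟩ := exists_dot_of_eq hsq (fst T E ≫ x) (snd T E ≫ φ) (by
      rw [Category.assoc, Category.assoc, hx, ← hσ, ← Category.assoc, ← Category.assoc,
        toUnit_unique (fst T E ≫ toUnit T) (snd T E ≫ toUnit E)])
    have ha : dot aE g (snd T E) ≫ φ = fst T E ≫ x := (hd _ _).trans hg
    obtain ⟨e, he⟩ := hloc.desc (dot aE g (snd T E)) fun Z p q hpq => ext _ _ (by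
      rw [Category.assoc, ha, Category.assoc, ha, reassoc_of% hpq])
    exact ⟨e, hloc.cancel (by rw [← Category.assoc, he, ha])⟩
  exact PullbackCone.IsLimit.mk _
    (fun s => (key s.pt s.fst (s.condition.trans (congrArg (· ≫ σ) (toUnit_unique _ _)))).choose)
    (fun s => (key s.pt s.fst (s.condition.trans (congrArg (· ≫ σ) (toUnit_unique _ _)))).choose_spec)
    (fun s => toUnit_unique _ _)
    fun s m h₁ _ => ext _ _ (h₁.trans
      (key s.pt s.fst (s.condition.trans (congrArg (· ≫ σ) (toUnit_unique _ _)))).choose_spec.symm)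

end Groth.AlgStCover
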