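import Groth.Agent.AlgStCover.InvQuot

/-!
# Universal categorical quotients
-/

set_option autoImplicit false
set_option backward.isDefEq.respectTransparency false
set_option backward.isDefEq.respectTransparency.types false

universe u

open AlgebraicGeometry CategoryTheory CategoryTheory.Limits MonoidalCategory CartesianMonoidalCategory MonObj
open Groth.AlgStCover.InvQuot

noncomputable section

namespace Groth.AlgStCover.UnivCat

variable {S : Scheme.{u}} {G X Y : Over S} [GrpObj G] {a : AlgGrp.Action G X} {φ : X ⟶ Y}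

/-- Functions on a categorical quotient are the invariant functions. -/
theorem existsUnique_function (h : GIT.IsCatQuot a φ) (σ : Γ(X.left, ⊤))
    (hσ : a.act.left.appTop σ = (snd G X).left.appTop σ) : ∃! τ : Γ(Y.left, ⊤), φ.left.appTop τ = σ := by
  let A : Over S := Over.mk (AffineSpace PUnit.{u + 1} S ↘ S)
  let mk : ∀ {Z : Over S}, Γ(Z.left, ⊤) → (Z ⟶ A) := fun {Z} v =>
    Over.homMk (AffineSpace.homOfVector Z.hom fun _ => v) (AffineSpace.homOfVector_over _ _)
  have hmk : ∀ {Z : Over S} (v : Γ(Z.left, ⊤)), (mk v).left.appTop (AffineSpace.coord S PUnit.unit) = v :=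
    fun v => AffineSpace.homOfVector_appTop_coord _ _ _
  have hext : ∀ {Z : Over S} (f g : Z ⟶ A),
      f.left.appTop (AffineSpace.coord S PUnit.unit) = g.left.appTop (AffineSpace.coord S PUnit.unit) → f = g := by
    intro Z f g e
    refine Over.OverMorphism.ext (AffineSpace.hom_ext ((Over.w f).trans (Over.w g).symm) ?_)
    rintro ⟨⟩
    exact e
  have hinv : GIT.IsInvariant a (mk σ) := hext _ _ (by
    rw [Over.comp_left, Over.comp_left, Scheme.Hom.comp_appTop, Scheme.Hom.comp_appTop,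
      ConcreteCategory.comp_apply, ConcreteCategory.comp_apply, hmk]
    exact hσ)
  obtain ⟨χ, hχ, hu⟩ := h.2 A (mk σ) hinv
  refine ⟨χ.left.appTop (AffineSpace.coord S PUnit.unit), ?_, fun τ hτ => ?_⟩
  · show φ.left.appTop (χ.left.appTop _) = σ
    rw [← ConcreteCategory.comp_apply, ← Scheme.Hom.comp_appTop, ← Over.comp_left, hχ, hmk]
  · rw [← hu (mk τ) (hext _ _ ?_), hmk]
    rw [Over.comp_left, Scheme.Hom.comp_appTop, ConcreteCategory.comp_apply, hmk, hmk]
    exact hτ

/-- The action on a base change of an invariant morphism. -/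
theorem exists_pullAction (hi : GIT.IsInvariant a φ) {X' Y' : Over S} {pr : X' ⟶ X} {φ' : X' ⟶ Y'}
    {g : Y' ⟶ Y} (sq : IsPullback pr φ' φ g) :
    ∃ a' : AlgGrp.Action G X', a'.act ≫ pr = (G ◁ pr) ≫ a.act ∧ GIT.IsInvariant a' φ' := by
  let m : G ⊗ X' ⟶ X' := sq.lift ((G ◁ pr) ≫ a.act) (snd G X' ≫ φ') (by
    rw [Category.assoc, hi, whiskerLeft_snd_assoc, sq.w, Category.assoc])
  have hm : m ≫ pr = (G ◁ pr) ≫ a.act := sq.lift_fst _ _ _
  have hm' : m ≫ φ' = snd G X' ≫ φ' := sq.lift_snd _ _ _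
  exact ⟨{ act := m
           one_act := sq.hom_ext (by
             rw [Category.assoc, hm, ← whisker_exchange_assoc, a.one_act]
             simp) (by rw [Category.assoc, hm']; simp [leftUnitor_hom])
           mul_act := sq.hom_ext (by
             rw [Category.assoc, hm, ← whisker_exchange_assoc, a.mul_act,
               Category.assoc, Category.assoc, hm, ← MonoidalCategory.whiskerLeft_comp_assoc, hm]
             simp) (by
             rw [Category.assoc, Category.assoc, Category.assoc, hm', whiskerLeft_snd_assoc, hm']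
             simp) }, hm, hm'⟩

/-- Universality passes to base changes. -/
theorem afterBaseChange_trans (h : GIT.AfterBaseChange (fun _ _ a' φ' => GIT.IsCatQuot a' φ') (fun _ _ => True) a φ)
    {X' Y' : Over S} {pr : X' ⟶ X} {φ' : X' ⟶ Y'} {g : Y' ⟶ Y} (sq : IsPullback pr φ' φ g)
    {a' : AlgGrp.Action G X'} (ha : a'.act ≫ pr = (G ◁ pr) ≫ a.act) :
    GIT.AfterBaseChange (fun _ _ a' φ' => GIT.IsCatQuot a' φ') (fun _ _ => True) a' φ' :=
  fun X'' Y'' pr' φ'' g' _ sq' a'' ha' hi' => h (pr' ≫ pr) φ'' (g' ≫ g) trivial (sq'.paste_horiz sq) a''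
    (by rw [reassoc_of% ha', ha, MonoidalCategory.whiskerLeft_comp, Category.assoc]) hi'

variable (hi : GIT.IsInvariant a φ)
  (h : GIT.AfterBaseChange (fun _ _ a' φ' => GIT.IsCatQuot a' φ') (fun _ _ => True) a φ)

include hi h

theorem surjective : Function.Surjective φ.left := by
  intro y
  by_contra hy
  let Y' : Over S := Over.mk (Y.left.fromSpecResidueField y ≫ Y.hom)
  let g : Y' ⟶ Y := Over.homMk (Y.left.fromSpecResidueField y)
  have sq := IsPullback.of_hasPullback φ g
  obtain ⟨a', ha', hi'⟩ := exists_pullAction hi sq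
  have hE : IsEmpty ↥(pullback φ g).left := ⟨fun p => hy ⟨(pullback.fst φ g).left p, by
    have := congrArg (fun m : pullback φ g ⟶ Y => m.left p) sq.w
    simp only [Over.comp_left, Scheme.Hom.comp_apply] at this
    rw [this]
    exact Scheme.fromSpecResidueField_apply y _⟩⟩
  have hs : Subsingleton Γ((pullback φ g).left, ⊤) := by
    rw [show (⊤ : (pullback φ g).left.Opens) = ⊥ from TopologicalSpace.Opens.ext (Set.eq_empty_of_isEmpty _)]
    exact inferInstance
  obtain ⟨τ, -, hτ⟩ := existsUnique_function (h _ _ g trivial sq a' ha' hi') 0 (by rw [map_zero, map_zero])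
  have e : (1 : Γ(Y'.left, ⊤)) = 0 := (hτ 1 (Subsingleton.elim _ _)).trans (hτ 0 (Subsingleton.elim _ _)).symm
  have : Nonempty Y'.left := ⟨(IsLocalRing.closedPoint (Y.left.residueField y) : Spec _)⟩
  have := @Scheme.component_nontrivial Y'.left ⊤ ⟨⟨Classical.arbitrary _, trivial⟩⟩
  exact one_ne_zero e

theorem sections (U : Y.left.Opens) :
    Function.Injective (φ.left.app U) ∧ Set.range (φ.left.app U) = {f | GIT.IsInvSection a φ U f} := by
  let X' : Over S := Over.mk ((φ.left ⁻¹ᵁ U).ι ≫ X.hom)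
  let Y' : Over S := Over.mk (U.ι ≫ Y.hom)
  let pr : X' ⟶ X := Over.homMk (φ.left ⁻¹ᵁ U).ι
  let g : Y' ⟶ Y := Over.homMk U.ι
  let φ' : X' ⟶ Y' := Over.homMk (φ.left ∣_ U) (by
    show (φ.left ∣_ U) ≫ U.ι ≫ Y.hom = (φ.left ⁻¹ᵁ U).ι ≫ X.hom
    rw [← Category.assoc, morphismRestrict_ι, Category.assoc, Over.w φ])
  have sq : IsPullback pr φ' φ g := IsPullback.of_map (Over.forget S)
    (Over.OverMorphism.ext (morphismRestrict_ι φ.left U).symm) (isPullback_morphismRestrict φ.left U).flip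
  obtain ⟨a', ha', hi'⟩ := exists_pullAction hi sq
  have hc := h pr φ' g trivial sq a' ha' hi'
  have : IsOpenImmersion pr.left := inferInstanceAs (IsOpenImmersion (φ.left ⁻¹ᵁ U).ι)
  have : IsOpenImmersion g.left := inferInstanceAs (IsOpenImmersion U.ι)
  have hjX : φ.left ⁻¹ᵁ U ≤ pr.left.opensRange := (φ.left ⁻¹ᵁ U).opensRange_ι.ge
  have hjX' : (⊤ : X'.left.Opens) = pr.left ⁻¹ᵁ (φ.left ⁻¹ᵁ U) := (Scheme.Opens.ι_preimage_self _).symm
  have hbX := bijective_appLE pr.left hjX hjX'
  have hjY' : (⊤ : Y'.left.Opens) = g.left ⁻¹ᵁ U := (Scheme.Opens.ι_preimage_self _).symm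
  have hbY := bijective_appLE g.left (W := U) (Scheme.Opens.opensRange_ι U).ge hjY'
  have key : ∀ b, φ'.left.appTop (g.left.appLE U ⊤ hjY'.le b) =
      pr.left.appLE (φ.left ⁻¹ᵁ U) ⊤ hjX'.le (φ.left.app U b) := fun b => by
    rw [← ConcreteCategory.comp_apply, ← ConcreteCategory.comp_apply, Scheme.Hom.appTop,
      Scheme.Hom.app_eq_appLE, Scheme.Hom.app_eq_appLE, Scheme.Hom.appLE_comp_appLE,
      Scheme.Hom.appLE_comp_appLE]
    simp only [show φ'.left ≫ g.left = pr.left ≫ φ.left from morphismRestrict_ι φ.left U]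
    rfl
  have hwit : ∀ f, GIT.IsInvSection a φ U f → a'.act.left.appTop (pr.left.appLE (φ.left ⁻¹ᵁ U) ⊤ hjX'.le f) =
      (snd G X').left.appTop (pr.left.appLE (φ.left ⁻¹ᵁ U) ⊤ hjX'.le f) := fun f hf => by
    have e₁ : (G ◁ pr).left ≫ a.act.left = a'.act.left ≫ pr.left := congrArg CommaMorphism.left ha'.symm
    have e₂ : (G ◁ pr).left ≫ (snd G X).left = (snd G X').left ≫ pr.left :=
      congrArg CommaMorphism.left (whiskerLeft_snd G pr)
    have hW : (⊤ : (G ⊗ X').left.Opens) ≤ (G ◁ pr).left ⁻¹ᵁ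
        (a.act.left ⁻¹ᵁ (φ.left ⁻¹ᵁ U) ⊓ (snd G X).left ⁻¹ᵁ (φ.left ⁻¹ᵁ U)) := by
      rw [Scheme.Hom.preimage_inf, ← Scheme.Hom.comp_preimage (G ◁ pr).left a.act.left,
        ← Scheme.Hom.comp_preimage (G ◁ pr).left (snd G X).left, e₁, e₂,
        Scheme.Hom.comp_preimage a'.act.left, Scheme.Hom.comp_preimage (snd G X').left, ← hjX']
      simp
    have := congrArg ((G ◁ pr).left.appLE _ ⊤ hW) hf
    rw [← ConcreteCategory.comp_apply, ← ConcreteCategory.comp_apply, Scheme.Hom.appLE_comp_appLE,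
      Scheme.Hom.appLE_comp_appLE] at this
    rw [← ConcreteCategory.comp_apply, ← ConcreteCategory.comp_apply, Scheme.Hom.appTop, Scheme.Hom.appTop,
      Scheme.Hom.app_eq_appLE, Scheme.Hom.app_eq_appLE, Scheme.Hom.appLE_comp_appLE,
      Scheme.Hom.appLE_comp_appLE]
    simp only [e₁, e₂] at this
    exact this
  have hmem : ∀ b, GIT.IsInvSection a φ U (φ.left.app U b) := fun b => by
    unfold GIT.IsInvSection
    rw [← ConcreteCategory.comp_apply, ← ConcreteCategory.comp_apply, Scheme.Hom.app_eq_appLE,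
      Scheme.Hom.appLE_comp_appLE, Scheme.Hom.appLE_comp_appLE]
    simp only [hi.left]
  refine ⟨fun b c hbc => hbY.1 ?_, Set.Subset.antisymm ?_ fun f hf => ?_⟩
  · obtain ⟨τ, -, hu⟩ := existsUnique_function hc _ (hwit _ (hmem b))
    exact (hu _ (key b)).trans (hu _ ((key c).trans (by rw [hbc]))).symm
  · rintro _ ⟨b, rfl⟩
    exact hmem b
  · obtain ⟨τ, hτ, -⟩ := existsUnique_function hc _ (hwit f hf)
    obtain ⟨b, rfl⟩ := hbY.2 τ
    exact ⟨b, hbX.1 ((key b).symm.trans hτ)⟩

end Groth.AlgStCover.UnivCat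

namespace Groth.AlgStCover

variable {S : Scheme.{u}} {G X Y : Over S} [GrpObj G] {a : AlgGrp.Action G X} {φ : X ⟶ Y}

open UnivCat

theorem psiY_surjective_baseChange {hi : GIT.IsInvariant a φ} (ho : Function.Surjective (GIT.PsiY a φ hi))
    {X' Y' : Over S} {pr : X' ⟶ X} {φ' : X' ⟶ Y'} {g : Y' ⟶ Y} (sq : IsPullback pr φ' φ g)
    {a' : AlgGrp.Action G X'} (ha : a'.act ≫ pr = (G ◁ pr) ≫ a.act) (hi' : GIT.IsInvariant a' φ') :
    Function.Surjective (GIT.PsiY a' φ' hi') := by
  intro z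
  let m : pullback φ'.left φ'.left ⟶ pullback φ.left φ.left :=
    pullback.map _ _ _ _ pr.left pr.left g.left (congrArg CommaMorphism.left sq.w).symm
      (congrArg CommaMorphism.left sq.w).symm
  obtain ⟨r, hr⟩ := ho (m z)
  let Z := (pullback φ'.left φ'.left).fromSpecResidueField z
  obtain ⟨t, -, -⟩ := Scheme.Pullback.exists_preimage_pullback (f := GIT.PsiY a φ hi) (g := Z ≫ m) r
    (IsLocalRing.closedPoint _) (by rw [Scheme.Hom.comp_apply, Scheme.fromSpecResidueField_apply]; exact hr)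
  let P := pullback (GIT.PsiY a φ hi) (Z ≫ m)
  let gam0 : P ⟶ (G ⊗ X).left := pullback.fst _ _
  let zet : P ⟶ pullback φ'.left φ'.left := pullback.snd _ _ ≫ Z
  have hgam : gam0 ≫ GIT.PsiY a φ hi = zet ≫ m := by
    rw [Category.assoc]; exact pullback.condition
  have h₁ : gam0 ≫ a.act.left = (zet ≫ pullback.fst _ _) ≫ pr.left := by
    have := congrArg (· ≫ pullback.fst _ _) hgam
    simp only [Category.assoc, GIT.PsiY, pullback.lift_fst, m, pullback.map] at this
    rw [Category.assoc]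
    exact this
  have h₂ : gam0 ≫ (snd G X).left = (zet ≫ pullback.snd _ _) ≫ pr.left := by
    have := congrArg (· ≫ pullback.snd _ _) hgam
    simp only [Category.assoc, GIT.PsiY, pullback.lift_snd, m, pullback.map] at this
    rw [Category.assoc]
    exact this
  let T : Over S := Over.mk (gam0 ≫ (G ⊗ X).hom)
  let gam : T ⟶ G ⊗ X := Over.homMk gam0 rfl
  let x₂ : T ⟶ X' := Over.homMk (zet ≫ pullback.snd _ _) (by
    show _ = gam0 ≫ (G ⊗ X).hom
    rw [← Over.w (snd G X), ← Category.assoc gam0, h₂, Category.assoc (zet ≫ _) pr.left, Over.w pr])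
  let ρ : T ⟶ G ⊗ X' := lift (gam ≫ fst G X) x₂
  have hρ : ρ ≫ (G ◁ pr) = gam := CartesianMonoidalCategory.hom_ext _ _ (by simp [ρ])
    ((by simp [ρ] : (ρ ≫ (G ◁ pr)) ≫ snd G X = x₂ ≫ pr).trans (Over.OverMorphism.ext h₂.symm))
  have hsnd : ρ.left ≫ (snd G X').left = zet ≫ pullback.snd _ _ :=
    congrArg CommaMorphism.left (lift_snd _ _ : ρ ≫ snd G X' = x₂)
  refine ⟨ρ.left t, ?_⟩
  have e : ρ.left ≫ GIT.PsiY a' φ' hi' = zet := by
    apply pullback.hom_ext
    · have sq' : IsPullback pr.left φ'.left φ.left g.left := sq.map (Over.forget S)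
      rw [Category.assoc, GIT.PsiY, pullback.lift_fst]
      apply sq'.hom_ext
      · rw [← h₁, show gam0 = (ρ ≫ (G ◁ pr)).left from (congrArg CommaMorphism.left hρ).symm, Over.comp_left,
          Category.assoc, Category.assoc,
          show a'.act.left ≫ pr.left = (G ◁ pr).left ≫ a.act.left from congrArg CommaMorphism.left ha]
      · rw [Category.assoc, hi'.left, ← Category.assoc, hsnd]
        simp only [Category.assoc, zet, pullback.condition]
    · rw [Category.assoc, GIT.PsiY, pullback.lift_snd, hsnd]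
  rw [← Scheme.Hom.comp_apply, e]
  show (pullback.snd _ _ ≫ Z) t = z
  rw [Scheme.Hom.comp_apply]
  exact Scheme.fromSpecResidueField_apply z _

theorem univCatQuot_props (h : GIT.IsUnivCatQuot a φ) :
    Function.Surjective φ.left ∧
      (∀ U : Y.left.Opens,
        Function.Injective (φ.left.app U) ∧ Set.range (φ.left.app U) = {f | GIT.IsInvSection a φ U f}) ∧
      (GIT.IsUnivGeomQuot a φ ↔
        GIT.IsUnivSubmersive φ.left ∧ Function.Surjective (GIT.PsiY a φ h.1.1)) := by
  refine ⟨surjective h.1.1 h.2, sections h.1.1 h.2, fun hg => ⟨hg.1.subm, hg.1.orbit⟩, fun ⟨hs, ho⟩ => ?_⟩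
  refine ⟨⟨h.1.1, surjective h.1.1 h.2, ho, hs, sections h.1.1 h.2⟩, fun X' Y' pr φ' g _ sq a' ha' hi' => ?_⟩
  have h' := afterBaseChange_trans h.2 sq ha'
  exact ⟨hi', surjective hi' h', psiY_surjective_baseChange ho sq ha' hi',
    MorphismProperty.of_isPullback (P := MorphismProperty.universally _) (sq.map (Over.forget S)) hs,
    sections hi' h'⟩

end Groth.AlgStCover
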