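import Groth.Agent.AlgStBasic.Permanence
import Groth.Agent.AlgStBasic.SpaceProps
import Groth.Agent.AlgStBasic.StCompact
import Groth.Agent.AlgSp2.FiniteTfae
import Groth.Agent.AlgStBasic.RepDescend
import Groth.Prelude.Def_W4stkstmodspWNA

/-!
# Well-nigh affine stacks
-/

set_option autoImplicit false
set_option backward.isDefEq.respectTransparency false
set_option backward.isDefEq.respectTransparency.types false

universe u

open CategoryTheory CategoryTheory.Limits AlgebraicGeometry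
open Groth.StkBase Groth.AlgStBasic Groth.AlgSpBasic

noncomputable section

namespace Groth.AlgStCover

variable {S : Scheme.{u}} {𝒳 𝒳' : AlgSt.Cat S}

/-- An affine scheme is separated over the base. -/
theorem repWith_sep_toSelf_overCat (U : Over S) [IsAffine U.left] :
    AlgSt.RepByAlgSpWith AlgSp.IsSeparatedMor (FibCat.toSelf (FibCat.overCat U) : FibCat.overCat U ⥤ᵇ _) := by
  let A := Over.mk (𝟙 S)
  have hT : ∀ W, Nonempty (Unique (((AlgSp.pyon S).obj A).obj W)) := fun W =>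
    ⟨⟨⟨⟨Over.homMk W.unop.hom (by simp [A])⟩⟩, fun x => by
      apply ULift.ext
      apply Over.OverMorphism.ext
      have := Over.w x.down
      simpa [A] using this⟩⟩
  have hE : FibCat.IsEquivOver (FibCat.toSelf (AlgSt.ofSch A)) := isEquivOver_toSelf_ofPsh_of_unique _ hT
  let u : U ⟶ A := Over.homMk U.hom
  have hs : AlgSp.IsSeparatedMor ((AlgSp.yon S).map u) := by
    refine (AlgSp.isSeparatedMor_yon_map_iff u).2 ?_
    have : IsSeparated (U.hom ≫ terminal.from S) := inferInstance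
    exact IsSeparated.of_comp U.hom (terminal.from S)
  have h1 : AlgSt.RepByAlgSpWith AlgSp.IsSeparatedMor (AlgSt.ofSpMap ((AlgSp.yon S).map u)) :=
    repWith_ofPshMap_of_stable (F := ⟨_, AlgSp.IsAlgSpace.yon_obj U⟩) (G := ⟨_, AlgSp.IsAlgSpace.yon_obj A⟩)
      stableBaseChange_sep _ hs
  exact (repWith_precomp_equiv (isEquivOver_toOverCat U) _).1
    (repWith_of_iso (selfIso _ _) ((repWith_postcomp_equiv _ hE).2 h1))

/-- The diagonal of a stack with a finite flat chart by a scheme separated over the base is proper. -/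
theorem isSeparatedOver_of_cover {𝒲 : AlgSt.Cat S}
    (hX : AlgSt.IsAlgStack Scheme.fppfPrecoverage 𝒳) (hW : AlgSt.RepByAlgSp 𝒲)
    (hs : AlgSt.RepByAlgSpWith AlgSp.IsSeparatedMor (FibCat.toSelf 𝒲))
    {x : 𝒲 ⥤ᵇ 𝒳} (h₁ : AlgSt.RepByAlgSpWith (AlgSp.LocP @Flat) x)
    (h₂ : AlgSt.RepByAlgSpWith (AlgSp.LocP @LocallyOfFinitePresentation) x)
    (h₃ : AlgSt.RepByAlgSpWith AlgSp.IsSurjectiveMor x)
    (h₄ : AlgSt.RepByAlgSpWith AlgSp.IsProperMor x) :
    AlgSt.IsSeparatedOver 𝒳 := by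
  have h𝒳 := hX.isStack.1
  have hU : FibCat.IsFibGrpd 𝒲.p := isFibGrpd_of_repByAlgSp hW
  let t := FibCat.toSelf 𝒳
  let M := fpPre x x t t
  have hM₁ : AlgSt.RepByAlgSpWith (AlgSp.LocP @Flat) M :=
    repWith_fpPre hU h𝒳 hU isFibGrpd_selfOver stableBaseChange_locP stableComp_locP
      descendsAlongAtlas_locP x x t t h₁ h₁
  have hM₂ : AlgSt.RepByAlgSpWith (AlgSp.LocP @LocallyOfFinitePresentation) M :=
    repWith_fpPre hU h𝒳 hU isFibGrpd_selfOver stableBaseChange_locP stableComp_locP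
      descendsAlongAtlas_locP x x t t h₂ h₂
  have hM₃ : AlgSt.RepByAlgSpWith AlgSp.IsSurjectiveMor M :=
    repWith_fpPre hU h𝒳 hU isFibGrpd_selfOver stableBaseChange_surjective stableComp_surjective
      descendsAlongAtlas_surjective x x t t h₃ h₃
  refine repWith_of_locally stableBaseChange_proper isLocalOnBase_fppf_proper hX.diag (g := M)
    (fun V z => exists_lift_of_fppf_surjective hM₁ hM₂ hM₃ V z) ?_
  refine (repWith_precomp_equiv (isEquivOver_diagFp' x x t) _).1 ?_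
  let T := FibCat.fpFst (BasedFunctor.comp x t) (BasedFunctor.comp x t)
  have hT : AlgSt.RepByAlgSpWith AlgSp.IsSeparatedMor T :=
    repWith_fpFst _ _ (repWith_of_iso (selfIso _ _) hs)
  refine repWith_of_comp_cancel' (g := T) (isFibGrpd_fp hU hU h𝒳) (isFibGrpd_fp hU hU isFibGrpd_selfOver)
    stableBaseChange_proper stableBaseChange_sep
    (fun _ _ _ hA hB hC a b hb hab => proper_of_comp hA hB hC a b hb hab)
    ((repByAlgSp1_precomp_iff (isEquivOver_diagFp' x x t) _).2 (repByAlgSp1_fpFst _ _ hX.diag)) hT ?_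
  exact repWith_of_iso (Iso.refl _) (repWith_fpFst x x h₄)

theorem wellNighAffine_props (hX : AlgSt.IsAlgStack Scheme.fppfPrecoverage 𝒳)
    (hw : AlgSt.IsWellNighAffine 𝒳) :
    AlgSt.IsQuasiCompact 𝒳 ∧ AlgSt.IsQuasiDMOver 𝒳 ∧ AlgSt.IsSeparatedOver 𝒳 := by
  obtain ⟨U, x, hU, hx⟩ := hw
  have hUr := repByAlgSp_overCat U
  have h₁ : AlgSt.RepByAlgSpWith (AlgSp.LocP @Flat) x := repWith_mono (fun _ _ _ _ _ h => h.1.1.2) hx
  have h₂ : AlgSt.RepByAlgSpWith (AlgSp.LocP @LocallyOfFinitePresentation) x :=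
    repWith_mono (fun _ _ _ _ _ h => h.2) hx
  have h₃ : AlgSt.RepByAlgSpWith AlgSp.IsSurjectiveMor x := repWith_mono (fun _ _ _ _ _ h => h.1.1.1) hx
  refine ⟨?_, ?_, ?_⟩
  · exact isQuasiCompact_of_isSurjective (isAlgStack_overCat U) hX
      ((isSurjective_iff_repWith (isFibGrpd_overCat U) hX.isStack.1 (repWith_repByAlgSp1 h₃)).2 h₃)
      isQuasiCompact_overCat
  · exact repWith_diag_toSelf_of_cover
      (fun _ _ _ a b ⟨(_ : LocallyQuasiFinite (a ≫ b)), (_ : LocallyOfFiniteType (a ≫ b))⟩ =>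
        ⟨LocallyQuasiFinite.of_comp a b, locallyOfFiniteType_of_comp a b⟩) hX hUr h₁ h₂ h₃
      (repWith_mono (fun _ _ _ hA hB h => Groth.AlgSp2.lqf_of_isFiniteMor hA hB h.1.2) hx)
  · exact isSeparatedOver_of_cover hX hUr (repWith_sep_toSelf_overCat U) h₁ h₂ h₃
      (repWith_mono (fun _ _ _ hA hB h => Groth.AlgSp2.isProperMor_of_isFiniteMor hA hB h.1.2) hx)

theorem wellNighAffine_of_affine (hX : FibCat.IsFibGrpd 𝒳.p) (f : 𝒳' ⥤ᵇ 𝒳)
    (hf : AlgSt.RepByAlgSpWith AlgSp.IsAffineMor f) (hw : AlgSt.IsWellNighAffine 𝒳) :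
    AlgSt.IsWellNighAffine 𝒳' := by
  obtain ⟨U, x, hU, hx⟩ := hw
  obtain ⟨F, e, he, hF⟩ := hf U x
  obtain ⟨W, i, fst, sq, hW⟩ := hF hU (𝟙 _)
  have : IsIso fst := sq.isIso_fst_of_isIso
  have : IsIso fst.hom := (sheafToPresheaf (AlgSp.J S) (Type (u + 1))).map_isIso fst
  let ρ : FibCat.overCat W ⥤ᵇ FibCat.fp x f :=
    BasedFunctor.comp (BasedFunctor.comp (AlgSt.ofOverCat W) (Stk.ofPshMap fst.hom)) e
  have hρ : FibCat.IsEquivOver ρ :=
    isEquivOver_comp (isEquivOver_comp (isEquivOver_ofOverCat W) (isEquivOver_ofPshMap fst.hom)) he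
  exact ⟨W, BasedFunctor.comp ρ (FibCat.fpSnd x f), hW,
    (repWith_precomp_equiv hρ _).2 (repWith_fpSnd x f hx)⟩

end Groth.AlgStCover
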