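import Groth.Agent.AlgSpBasic.FiniteEtaleQuot
import Groth.Agent.AlgStBasic.AffCalc
import Groth.Agent.AlgStBasic.LocQBase
import Groth.Agent.AlgStBasic.Permanence
import Groth.Prelude.Def_W4stkstmodspWNA

/-!
# Well-nigh affine stacks that are algebraic spaces are affine
-/

set_option autoImplicit false
set_option backward.isDefEq.respectTransparency.types false

universe u

open CategoryTheory CategoryTheory.Limits AlgebraicGeometry Opposite AlgSp
open Groth.AlgSpBasic

namespace Groth.AlgStCover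

variable {S : Scheme.{u}}

/-- An algebraic space with a finite flat affine chart is an affine scheme. -/
theorem exists_iso_of_finite_flat_chart {X : Sp S} {R V : Over S} [IsAffine V.left] {t s : R ⟶ V}
    {p : (yon S).obj V ⟶ X} (hfl : RepWith @Flat p) (hlf : RepWith @LocallyOfFinitePresentation p)
    (hfi : RepWith @IsFinite p) (hs : RepWith @Surjective p)
    (sq : IsPullback ((yon S).map t) ((yon S).map s) p p) :
    ∃ (Y : Over S) (_ : IsAffine Y.left), Nonempty ((yon S).obj Y ≅ X) := by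
  have : Flat s.left := repWith_fst_of_isPullback sq hfl
  have : LocallyOfFinitePresentation s.left := repWith_fst_of_isPullback sq hlf
  have : IsFinite s.left := repWith_fst_of_isPullback sq hfi
  have : IsAffine R.left := isAffine_of_isAffineHom s.left
  have hR := isEqvRel_of_isPullback sq
  have hj : ∀ {T : Scheme.{u}} {a b : T ⟶ R.left}, a ≫ t.left = b ≫ t.left →
      a ≫ s.left = b ≫ s.left → a = b := by
    intro T a b ht hs'
    have hb : b ≫ R.hom = a ≫ R.hom := by
      rw [← Over.w t, ← Category.assoc, ← ht, Category.assoc]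
    exact congrArg CommaMorphism.left (hR.injective (Over.mk (a ≫ R.hom))
      (Over.homMk a rfl) (Over.homMk b hb)
      (by ext1; exact ht) (by ext1; exact hs'))
  -- identity, inverse, composition
  obtain ⟨e, he₁, he₂⟩ := ((hR.equivalence V).refl (𝟙 V))
  obtain ⟨i, hi₁, hi₂⟩ := ((hR.equivalence R).symm ⟨𝟙 R, Category.id_comp t, Category.id_comp s⟩)
  let C : Over S := Over.mk (pullback.fst s.left t.left ≫ R.hom)
  let c₁ : C ⟶ R := Over.homMk (pullback.fst s.left t.left) rfl
  let c₂ : C ⟶ R := Over.homMk (pullback.snd s.left t.left) (by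
    change _ = pullback.fst s.left t.left ≫ R.hom
    conv_lhs => rw [← Over.w t]
    conv_rhs => rw [← Over.w s]
    rw [← Category.assoc, ← pullback.condition, Category.assoc])
  have hc : c₁ ≫ s = c₂ ≫ t := by ext1; exact pullback.condition
  obtain ⟨c, hc₁, hc₂⟩ := ((hR.equivalence C).trans (x := c₁ ≫ t) (y := c₁ ≫ s) (z := c₂ ≫ s)
    ⟨c₁, rfl, rfl⟩ ⟨c₂, hc.symm, rfl⟩)
  let G : Grpd.GroupoidScheme S := GrpdBasic.ofMono V.hom R.hom s.left t.left (Over.w s) (Over.w t)
    hj e.left i.left c.left (by rw [← Over.comp_left, he₂]; rfl) (by rw [← Over.comp_left, he₁]; rfl)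
    (by rw [← Over.comp_left, hi₂]) (by rw [← Over.comp_left, hi₁])
    (by rw [← Over.comp_left, hc₂]; rfl) (by rw [← Over.comp_left, hc₁]; rfl)
  have : IsAffine G.U := ‹IsAffine V.left›
  have : IsAffine G.R := ‹IsAffine R.left›
  have : IsFinite G.s := ‹IsFinite s.left›
  have : Flat G.s := inferInstanceAs (Flat s.left)
  have : LocallyOfFinitePresentation G.s := inferInstanceAs (LocallyOfFinitePresentation s.left)
  have : Mono G.j := GrpdBasic.mono_j_of_hom_ext G hj
  obtain ⟨⟨hfin, hflat, hlfp⟩, hpb⟩ := AffGpd.mono_toQuot G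
  have hsurj : Surjective G.toQuot := ⟨(AffGpd.isQuot_toQuot G).surj⟩
  let M := Spec (CommRingCat.of G.invariants)
  have hV : ∀ {Z : Scheme.{u}} (g₁ g₂ : Z ⟶ G.U), g₁ ≫ G.toQuot = g₂ ≫ G.toQuot →
      g₁ ≫ V.hom = g₂ ≫ V.hom := fun g₁ g₂ h => by
    rw [← hpb.lift_fst g₁ g₂ h]
    conv_rhs => rw [← hpb.lift_snd g₁ g₂ h]
    rw [Category.assoc, Category.assoc]
    exact congrArg _ ((Over.w t).trans (Over.w s).symm)
  let Y : Over S := Over.mk (EffectiveEpi.desc G.toQuot V.hom hV)
  let q : V ⟶ Y := Over.homMk G.toQuot (EffectiveEpi.fac G.toQuot V.hom hV)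
  have : IsFinite q.left := hfin
  have : Flat q.left := hflat
  have : LocallyOfFinitePresentation q.left := hlfp
  have : Surjective q.left := hsurj
  have hq : IsPullback t s q q :=
    IsPullback.of_map (Over.forget S) (by ext1; exact hpb.w) hpb
  have : Sheaf.IsLocallySurjective ((yon S).map q) := isLocallySurjective_of_repWith _
    ((repWith_yon_map_iff _ q).2 ‹Flat q.left›)
    ((repWith_yon_map_iff _ q).2 ‹LocallyOfFinitePresentation q.left›)
    ((repWith_yon_map_iff _ q).2 ‹Surjective q.left›)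
  have : Sheaf.IsLocallySurjective p := isLocallySurjective_of_repWith p hfl hlf hs
  obtain ⟨h₁⟩ := isColimit_of_isLocallySurjective (hq.map (yon S))
  obtain ⟨h₂⟩ := isColimit_of_isLocallySurjective sq
  exact ⟨Y, inferInstanceAs (IsAffine M), ⟨h₁.coconePointUniqueUpToIso h₂⟩⟩


set_option backward.isDefEq.respectTransparency false in
/-- A well-nigh affine stack which is an algebraic space is an affine scheme. -/
theorem exists_affine_of_wellNighAffine {𝒳 : AlgSt.Cat S}
    (hw : AlgSt.IsWellNighAffine 𝒳) (hsp : AlgSt.RepByAlgSp 𝒳) :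
    ∃ (U : Over S) (e : AlgSt.ofSch U ⥤ᵇ 𝒳), IsAffine U.left ∧ FibCat.IsEquivOver e := by
  obtain ⟨M, e, he⟩ := hsp
  obtain ⟨U, x, hU, hx⟩ := hw
  obtain ⟨e', he', -, -⟩ := Groth.StkBase.isEquivOver_symm he
  let V : AlgSp.Space S := (AlgSp.ofScheme S).obj U
  let X : AlgSt.ofSp V.obj ⥤ᵇ AlgSt.ofSp M.obj := BasedFunctor.comp (AlgSt.toOverCat U) (BasedFunctor.comp x e')
  let p : (yon S).obj U ⟶ M.obj := Groth.AlgStBasic.mapOf X
  have hX := (Groth.AlgStBasic.repWith_precomp_equiv (Groth.AlgStBasic.isEquivOver_toOverCat U) _).2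
    ((Groth.AlgStBasic.repWith_postcomp_equiv _ he').2 hx)
  have hfi' : AlgSp.IsFiniteMor p := Groth.AlgStBasic.prop_mapOf_of_repWith
    (Groth.AlgStBasic.isFiniteMor_eq (S := S) ▸ Groth.AlgStBasic.stableBaseChange_repWith _)
    (Groth.AlgStBasic.descendsAlongAtlas_of_isLocalOnBase
      (Groth.AlgStBasic.isLocalOnBase_fppf_of_fpqc Groth.AlgSp2.isLocalOnBase_fpqc_isFiniteMor))
    V.property M.property (Groth.AlgStBasic.repWith_mono (fun _ _ _ _ _ h => h.1.2) hX)
  have hfi := isFiniteMor_iff_repWith.1 hfi'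
  have hfl : RepWith @Flat p := repWith_of_locP M.property hfi.rep
    (Groth.AlgStBasic.prop_mapOf_of_repWith Groth.AlgStBasic.stableBaseChange_locP
      Groth.AlgStBasic.descendsAlongAtlas_locP V.property M.property
      (Groth.AlgStBasic.repWith_mono (fun _ _ _ _ _ h => h.1.1.2) hX))
  have hlf : RepWith @LocallyOfFinitePresentation p := repWith_of_locP M.property hfi.rep
    (Groth.AlgStBasic.prop_mapOf_of_repWith Groth.AlgStBasic.stableBaseChange_locP
      Groth.AlgStBasic.descendsAlongAtlas_locP V.property M.property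
      (Groth.AlgStBasic.repWith_mono (fun _ _ _ _ _ h => h.2) hX))
  have hs : RepWith @Surjective p := repWith_surjective_of_points hfi.rep
    (Groth.AlgStBasic.prop_mapOf_of_repWith Groth.AlgStBasic.stableBaseChange_surjective
      Groth.AlgStBasic.descendsAlongAtlas_surjective V.property M.property
      (Groth.AlgStBasic.repWith_mono (fun _ _ _ _ _ h => h.1.1.1) hX))
  obtain ⟨R, t, s, sq⟩ := exists_pullback_yon hfi.rep p
  obtain ⟨Y, hY, ⟨h⟩⟩ := exists_iso_of_finite_flat_chart (V := U) hfl hlf hfi hs sq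
  have : IsIso h.hom.hom := (sheafToPresheaf (AlgSp.J S) (Type (u + 1))).map_isIso h.hom
  exact ⟨Y, BasedFunctor.comp (Stk.ofPshMap h.hom.hom) e, hY,
    Groth.StkBase.isEquivOver_comp (Groth.StkBase.isEquivOver_ofPshMap h.hom.hom) he⟩

end Groth.AlgStCover
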